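import Groth.Agent.S0265
import Groth.Agent.S0238
import Groth.Agent.Lib.FEt.GeomConn
import Groth.Agent.Lib.FEt.Summand
import Groth.Agent.Lib.FinCond.Components
import Groth.Agent.H52.FBase.GeomRedSch
import Groth.Agent.H75.RedSub
import Groth.Agent.H80.Clopen.ProperBaseField

/-!
# Connected finite etale covers of a product are dominated by products of covers
-/

set_option autoImplicit false
set_option backward.isDefEq.respectTransparency false

noncomputable section

universe u

open CategoryTheory CategoryTheory.Limits AlgebraicGeometry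

namespace Groth.Agent.Lib.Kunneth

open Groth.Agent.Lib.FEt

theorem locallyConnectedSpace (X : Scheme.{u}) [IsLocallyNoetherian X] : LocallyConnectedSpace X :=
  FinCond.locallyConnectedSpace_of_locally_noetherian fun x => FinCond.locally_noetherian X x

theorem isLocallyNoetherian_left {S : Scheme.{u}} [IsLocallyNoetherian S] (V : FEt.Cat S) :
    IsLocallyNoetherian V.left :=
  let v : V.left ⟶ S := V.hom
  haveI : IsFinite v := V.prop.1
  LocallyOfFiniteType.isLocallyNoetherian v

/-- The connected component of a point of a cover. -/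
theorem exists_component {S : Scheme.{u}} [IsLocallyNoetherian S] (V : FEt.Cat S) (v : V.left) :
    ∃ (C : FEt.Cat S) (i : C ⟶ V), ConnectedSpace C.left ∧ IsOpenImmersion i.left ∧
      Set.range i.left.base = connectedComponent v := by
  have := isLocallyNoetherian_left V
  have := locallyConnectedSpace V.left
  let O : V.left.Opens := ⟨connectedComponent v, isOpen_connectedComponent⟩
  refine ⟨Summand.clopenSub V O isClosed_connectedComponent,
    Summand.clopenIncl V O isClosed_connectedComponent, ?_, inferInstanceAs (IsOpenImmersion O.ι), ?_⟩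
  · exact Subtype.connectedSpace isConnected_connectedComponent
  · exact Scheme.Opens.range_ι O

/-- A morphism from a connected scheme to a cover factors through a component. -/
theorem exists_component_lift {S T : Scheme.{u}} [IsLocallyNoetherian S] [ConnectedSpace T]
    (V : FEt.Cat S) (z : T ⟶ V.left) :
    ∃ (C : FEt.Cat S) (i : C ⟶ V) (z' : T ⟶ C.left), ConnectedSpace C.left ∧
      IsOpenImmersion i.left ∧ z' ≫ i.left = z ∧
      Set.range i.left.base = connectedComponent (z.base (Classical.arbitrary T)) := by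
  obtain ⟨C, i, hC, hi, hr⟩ := exists_component V (z.base (Classical.arbitrary T))
  refine ⟨C, i, IsOpenImmersion.lift i.left z ?_, hC, hi, IsOpenImmersion.lift_fac _ _ _, hr⟩
  rw [hr]
  exact (isPreconnected_range z.continuous).subset_connectedComponent ⟨_, rfl⟩

theorem exists_reduction (D : Scheme.{u}) :
    ∃ (Dr : Scheme.{u}) (r : Dr ⟶ D), IsClosedImmersion r ∧ Surjective r ∧ IsReduced Dr := by
  refine ⟨_, (Scheme.IdealSheafData.vanishingIdeal (⊤ : TopologicalSpace.Closeds D)).subschemeι,
    inferInstance, ⟨Set.range_eq_univ.1 ?_⟩, H75.RedSub.isReduced_vanishingIdeal _⟩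
  rw [Scheme.IdealSheafData.range_subschemeι, Scheme.IdealSheafData.coe_support_vanishingIdeal]
  rfl

theorem nonempty_of_connected_spec {k : Type u} [Field k] : ConnectedSpace ↥(Spec (CommRingCat.of k)) :=
  inferInstanceAs (ConnectedSpace (PrimeSpectrum k))

/-- A connected cover of `X × Y`, `X` proper, is dominated by a product of covers. -/
theorem exists_dominated {k : Type u} [Field k] [IsAlgClosed k] {X Y : Scheme.{u}}
    (pX : X ⟶ Spec (CommRingCat.of k)) (pY : Y ⟶ Spec (CommRingCat.of k)) [IsProper pX]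
    [ConnectedSpace X] [IsLocallyNoetherian Y] [ConnectedSpace Y]
    (W : FEt.Cat (pullback pX pY)) [ConnectedSpace W.left] :
    ∃ (X' : FEt.Cat X) (Y' : FEt.Cat Y) (φ : pullback (X'.hom ≫ pX) (Y'.hom ≫ pY) ⟶ W.left),
      φ ≫ W.hom = pullback.map (X'.hom ≫ pX) (Y'.hom ≫ pY) pX pY X'.hom Y'.hom (𝟙 _)
        (Category.comp_id _) (Category.comp_id _) ∧ Surjective φ := by
  classical
  have : ConnectedSpace ↥(pullback pX pY) := GeomConn.connectedSpace_pullback_of_isAlgClosed k pX pY
  have : IsLocallyNoetherian (Spec (CommRingCat.of k)) := inferInstance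
  have : IsLocallyNoetherian X := LocallyOfFiniteType.isLocallyNoetherian pX
  have : IsLocallyNoetherian (pullback pX pY) :=
    LocallyOfFiniteType.isLocallyNoetherian (pullback.snd pX pY)
  -- a geometric point of `Y`
  obtain ⟨y⟩ := (inferInstance : Nonempty Y)
  let K := AlgebraicClosure (Y.residueField y)
  let η : Spec (CommRingCat.of K) ⟶ Y :=
    Spec.map (CommRingCat.ofHom (algebraMap (Y.residueField y) K)) ≫ Y.fromSpecResidueField y
  obtain ⟨ψ, hψ⟩ := Spec.map_surjective (η ≫ pY)
  let : Algebra k K := ψ.hom.toAlgebra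
  let g : Spec (CommRingCat.of K) ⟶ Spec (CommRingCat.of k) :=
    Spec.map (CommRingCat.ofHom (algebraMap k K))
  have hg : η ≫ pY = g := hψ.symm
  let j : pullback pX g ⟶ pullback pX pY :=
    pullback.map pX g pX pY (𝟙 X) η (𝟙 _) (by simp) (by simp [hg])
  have : (FEt.restrict (pullback.fst pX g)).IsEquivalence :=
    H80.Clopen.ProperBaseField.isEquivalence pX K
  let W₀ : FEt.Cat X := (FEt.restrict (pullback.fst pX g)).objPreimage ((FEt.restrict j).obj W)
  let e := (FEt.restrict (pullback.fst pX g)).objObjPreimageIso ((FEt.restrict j).obj W)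
  -- a connected component of `W₀`
  have : ConnectedSpace ↥(Spec (CommRingCat.of K)) := nonempty_of_connected_spec
  have hne : Nonempty ↥W₀.left := by
    have hc : ConnectedSpace ↥(pullback pX g) := GeomConn.connectedSpace_pullback_of_isAlgClosed k pX g
    obtain ⟨z⟩ := hc.toNonempty
    let w' : W.left ⟶ pullback pX pY := W.hom
    have hs : Surjective w' := by
      have : IsFinite w' := W.prop.1
      have : Etale w' := W.prop.2
      have h := (Basic.isClopen_image w' isClopen_univ).eq_univ
        ((Set.univ_nonempty (α := ↥W.left)).image _)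
      refine ⟨fun q => ?_⟩
      obtain ⟨w, -, hw⟩ := h.symm ▸ Set.mem_univ q
      exact ⟨w, hw⟩
    obtain ⟨w, hw⟩ := hs.surj (j.base z)
    obtain ⟨t, -, -⟩ := Scheme.Pullback.exists_preimage_pullback (f := W.hom) (g := j) w z hw
    exact ⟨(pullback.fst W₀.hom (pullback.fst pX g)).base (e.inv.left.base t)⟩
  obtain ⟨D, iD, hD, -, -⟩ := exists_component W₀ (Classical.arbitrary W₀.left)
  have : IsFinite D.hom := D.prop.1
  have : Etale D.hom := D.prop.2
  obtain ⟨Dr, r, hr, hrs, hred⟩ := exists_reduction D.left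
  have : ConnectedSpace Dr :=
    haveI : Nonempty Dr := let ⟨x⟩ := hD.toNonempty; ⟨(hrs.surj x).choose⟩
    (r.isClosedEmbedding.isEmbedding.toHomeomorphOfSurjective hrs.surj).symm.surjective.connectedSpace
      (r.isClosedEmbedding.isEmbedding.toHomeomorphOfSurjective hrs.surj).symm.continuous
  let a : Dr ⟶ X := r ≫ D.hom
  let pD : Dr ⟶ Spec (CommRingCat.of k) := a ≫ pX
  have : IsProper pD := inferInstance
  have : GeometricallyReduced pD := H52.FBase.GeomRedSch.geometricallyReduced_of_perfectField pD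
  let fY := pullback.snd pD pY
  let m : pullback pD pY ⟶ pullback pX pY :=
    pullback.map pD pY pX pY a (𝟙 Y) (𝟙 _) (by simp [pD]) (by simp)
  let W' := (FEt.restrict m).obj W
  have hfib : ∀ (Ω : Type u) [Field Ω] [IsAlgClosed Ω] (s : Spec (CommRingCat.of Ω) ⟶ Y),
      ConnectedSpace ↥(pullback fY s) ∧ IsReduced (pullback fY s) := by
    intro Ω _ _ s
    let e' := pullbackLeftPullbackSndIso pD pY s
    have : ConnectedSpace ↥(Spec (CommRingCat.of Ω)) := nonempty_of_connected_spec
    have h1 : ConnectedSpace ↥(pullback pD (s ≫ pY)) :=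
      GeomConn.connectedSpace_pullback_of_isAlgClosed k pD (s ≫ pY)
    have h2 : IsReduced (pullback pD (s ≫ pY)) :=
      GeometricallyReduced.geometrically_isReduced (f := pD) _ _ _ (IsPullback.of_hasPullback pD (s ≫ pY))
    exact ⟨e'.inv.homeomorph.surjective.connectedSpace e'.inv.continuous,
      isReduced_of_isOpenImmersion e'.hom⟩
  have := (hfib K η).1
  -- the section over the geometric fibre
  let c : pullback fY η ⟶ pullback pD g :=
    pullback.lift (pullback.fst fY η ≫ pullback.fst pD pY) (pullback.snd fY η) (by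
      rw [Category.assoc, pullback.condition, ← hg, ← pullback.condition_assoc])
  let b : pullback pD g ⟶ pullback W₀.hom (pullback.fst pX g) :=
    pullback.lift (pullback.fst pD g ≫ r ≫ iD.left)
      (pullback.map pD g pX g a (𝟙 _) (𝟙 _) (by simp [pD]) (by simp)) (by
        rw [Category.assoc, Category.assoc, pullback.lift_fst, Over.w iD.hom])
  let el : pullback W₀.hom (pullback.fst pX g) ⟶ pullback W.hom j := e.hom.left
  have hel : el ≫ pullback.snd W.hom j = pullback.snd W₀.hom (pullback.fst pX g) := Over.w e.hom.hom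
  let σ₀ : pullback fY η ⟶ W.left := c ≫ b ≫ el ≫ pullback.fst W.hom j
  have hσ₀ : σ₀ ≫ W.hom = pullback.fst fY η ≫ m := by
    simp only [σ₀, Category.assoc, pullback.condition]
    rw [reassoc_of% hel, pullback.lift_snd_assoc]
    apply pullback.hom_ext
    · simp [c, j, m, fY]
    · simp [c, j, m, fY, pullback.condition]
  let σ : pullback fY η ⟶ W'.left := pullback.lift σ₀ (pullback.fst fY η) hσ₀
  have hσ : σ ≫ W'.hom = pullback.fst fY η := pullback.lift_snd _ _ _
  have : IsLocallyNoetherian (pullback pD pY) :=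
    LocallyOfFiniteType.isLocallyNoetherian (pullback.snd pD pY)
  obtain ⟨C, i, σ', hC, -, hσ', -⟩ := exists_component_lift W' σ
  have hσ'C : σ' ≫ C.hom = pullback.fst fY η := by
    have hw : i.left ≫ W'.hom = C.hom := Over.w i.hom
    rw [← hw, reassoc_of% hσ']
    exact hσ
  obtain ⟨Y', ⟨e₁⟩⟩ := S0265.result fY hfib C K η σ' hσ'C
  -- the map on the thickened product
  let Pd := pullback (D.hom ≫ pX) (Y'.hom ≫ pY)
  let mP : Pd ⟶ pullback pX pY := pullback.map (D.hom ≫ pX) (Y'.hom ≫ pY) pX pY D.hom Y'.hom (𝟙 _)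
    (Category.comp_id _) (Category.comp_id _)
  have sqR : IsPullback (pullback.map pD (Y'.hom ≫ pY) (D.hom ≫ pX) (Y'.hom ≫ pY) r (𝟙 _) (𝟙 _)
      (by simp [pD, a]) (by simp)) (pullback.fst pD (Y'.hom ≫ pY))
      (pullback.fst (D.hom ≫ pX) (Y'.hom ≫ pY)) r := by
    refine IsPullback.of_right ?_ (by simp [pullback.map]) (IsPullback.of_hasPullback _ _).flip
    simpa [pullback.map, pD, a, Category.assoc] using (IsPullback.of_hasPullback pD (Y'.hom ≫ pY)).flip
  let t := pullback.map pD (Y'.hom ≫ pY) (D.hom ≫ pX) (Y'.hom ≫ pY) r (𝟙 _) (𝟙 _)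
      (by simp [pD, a]) (by simp)
  have : IsClosedImmersion t := MorphismProperty.of_isPullback sqR.flip hr
  have : Surjective t := MorphismProperty.of_isPullback sqR.flip hrs
  let V : FEt.Cat Pd := (FEt.restrict mP).obj W
  let E : FEt.Cat Pd := MorphismProperty.Over.mk ⊤ (𝟙 Pd) ⟨inferInstance, inferInstance⟩
  let q : pullback pD (Y'.hom ≫ pY) ⟶ pullback Y'.hom fY :=
    pullback.lift (pullback.snd pD (Y'.hom ≫ pY))
      (pullback.map pD (Y'.hom ≫ pY) pD pY (𝟙 _) Y'.hom (𝟙 _) (by simp) (by simp))
      (by simp [fY, pullback.map])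
  let el₁ : pullback Y'.hom fY ⟶ C.left := e₁.hom.left
  have hel₁ : el₁ ≫ i.left ≫ pullback.snd W.hom m = pullback.snd Y'.hom fY := by
    rw [show i.left ≫ pullback.snd W.hom m = C.hom from Over.w i.hom]
    exact Over.w e₁.hom.hom
  let w₀ : pullback pD (Y'.hom ≫ pY) ⟶ W.left := q ≫ el₁ ≫ i.left ≫ pullback.fst W.hom m
  have hw₀ : w₀ ≫ W.hom = t ≫ mP := by
    simp only [w₀, Category.assoc, pullback.condition]
    rw [reassoc_of% hel₁, pullback.lift_snd_assoc]
    apply pullback.hom_ext <;> simp [m, t, mP, a, pullback.map]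
  have hfull : (FEt.restrict t).IsEquivalence := S0238.result t
  let s₀ : (FEt.restrict t).obj E ⟶ (FEt.restrict t).obj V :=
    MorphismProperty.Over.homMk (pullback.lift (pullback.lift (pullback.snd E.hom t ≫ w₀)
        (pullback.snd E.hom t ≫ t) (by rw [Category.assoc, hw₀, Category.assoc]))
      (pullback.snd E.hom t) (pullback.lift_snd _ _ _))
      (pullback.lift_snd _ _ _) trivial
  obtain ⟨s, -⟩ := (FEt.restrict t).map_surjective s₀
  let sl : Pd ⟶ pullback W.hom mP := s.left
  have hsl : sl ≫ pullback.snd W.hom mP = 𝟙 Pd := Over.w s.hom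
  have hφ : (sl ≫ pullback.fst W.hom mP) ≫ W.hom = mP := by
    rw [Category.assoc, pullback.condition, reassoc_of% hsl]
  let φ : Pd ⟶ W.left := sl ≫ pullback.fst W.hom mP
  refine ⟨D, Y', φ, hφ, ?_⟩
  have : IsFinite Y'.hom := Y'.prop.1
  have : Etale Y'.hom := Y'.prop.2
  have hmP : FEt.prop mP :=
    MorphismProperty.pullbackMap (P := FEt.prop) D.prop Y'.prop rfl rfl
  have : IsFinite W.hom := W.prop.1
  have : Etale W.hom := W.prop.2
  have : IsFinite φ := by
    have : IsFinite (φ ≫ W.hom) := hφ ▸ hmP.1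
    exact IsFinite.of_comp φ W.hom
  have : Etale φ := by
    have : Etale (φ ≫ W.hom) := hφ ▸ hmP.2
    exact Etale.of_comp φ W.hom
  have hne : Nonempty Pd := by
    obtain ⟨z⟩ := (inferInstance : Nonempty ↥(pullback fY η))
    let z' : (pullback Y'.hom fY : Scheme.{u}) := e₁.inv.left.base (σ'.base z)
    obtain ⟨p, -, -⟩ := Scheme.Pullback.exists_preimage_pullback (f := (D.hom ≫ pX)) (g := (Y'.hom ≫ pY))
      (r.base (Classical.arbitrary Dr)) ((pullback.fst Y'.hom fY).base z') (Subsingleton.elim (α := PrimeSpectrum k) _ _)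
    exact ⟨p⟩
  exact ⟨fun w => by
    have h := (Basic.isClopen_image φ isClopen_univ).eq_univ (Set.image_nonempty.2 Set.univ_nonempty)
    obtain ⟨p, -, hp⟩ := h.symm ▸ Set.mem_univ w
    exact ⟨p, hp⟩⟩

end Groth.Agent.Lib.Kunneth
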