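import Groth.Agent.Lib.Kunneth.Basic
import Groth.Agent.Lib.FEt.ConnectedObj
import Groth.Agent.Lib.FEt.GaloisCat
import Groth.Agent.Lib.FEt.FiberUnique

/-!
# Families of finite etale covers parametrised by a connected scheme are constant
-/

set_option autoImplicit false
set_option backward.isDefEq.respectTransparency false

noncomputable section

universe u

open CategoryTheory CategoryTheory.Limits AlgebraicGeometry

namespace Groth.Agent.Lib.Kunneth

open Groth.Agent.Lib.FEt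

/-- Over an algebraically closed field the geometric points of a cover are rational points. -/
theorem exists_rational_point {k : Type u} [Field k] [IsAlgClosed k] {Y : Scheme.{u}}
    (y : Spec (CommRingCat.of k) ⟶ Y) (B : FEt.Cat Y) {Ω : Type u} [Field Ω]
    (g : Spec (CommRingCat.of Ω) ⟶ Spec (CommRingCat.of k))
    (s : Spec (CommRingCat.of Ω) ⟶ B.left) (hs : s ≫ B.hom = g ≫ y) :
    ∃ b : FEt.fiberObj y B, g ≫ b.1 = s := by
  have : ConnectedSpace ↥(Spec (CommRingCat.of Ω)) := nonempty_of_connected_spec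
  let Q := (FEt.restrict y).obj B
  obtain ⟨C, i, z, hC, -, hz, -⟩ := exists_component_lift Q (pullback.lift s g hs : _ ⟶ Q.left)
  have : IsSepClosed (IsLocalRing.ResidueField k) :=
    haveI : IsAlgClosed (IsLocalRing.ResidueField k) := IsAlgClosed.of_ringEquiv k _
      (RingEquiv.ofBijective (IsLocalRing.residue k)
        ⟨(IsLocalRing.residue k).injective, IsLocalRing.residue_surjective⟩)
    inferInstance
  have hiso : IsIso C.hom := ConnectedObj.isIso_hom_of_strictlyHenselian C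
  let c : C.left ⟶ Spec (CommRingCat.of k) := C.hom
  let j : C.left ⟶ pullback B.hom y := i.left
  have hj : j ≫ pullback.snd B.hom y = c := Over.w i.hom
  have hz' : z ≫ j = pullback.lift s g hs := hz
  have hzc : z ≫ c = g := by rw [← hj, reassoc_of% hz', pullback.lift_snd]
  haveI : IsIso c := hiso
  refine ⟨⟨inv c ≫ j ≫ pullback.fst B.hom y, ?_⟩, ?_⟩
  · simp only [Category.assoc, pullback.condition]
    rw [reassoc_of% hj, IsIso.inv_hom_id_assoc]
  · rw [← hzc, Category.assoc, IsIso.hom_inv_id_assoc, reassoc_of% hz', pullback.lift_fst]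

variable {k : Type u} [Field k] [IsAlgClosed k] {X Y : Scheme.{u}}
  {pX : X ⟶ Spec (CommRingCat.of k)} {pY : Y ⟶ Spec (CommRingCat.of k)}

/-- A product of connected covers over a cover of a product. -/
structure Dom (Z : FEt.Cat (pullback pX pY)) where
  A : FEt.Cat X
  B : FEt.Cat Y
  hA : ConnectedSpace A.left
  hB : ConnectedSpace B.left
  φ : pullback (A.hom ≫ pX) (B.hom ≫ pY) ⟶ Z.left
  comm : φ ≫ Z.hom = pullback.map (A.hom ≫ pX) (B.hom ≫ pY) pX pY A.hom B.hom (𝟙 _)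
    (Category.comp_id _) (Category.comp_id _)

theorem isLocallyNoetherian_pullback (h : IsProper pX ∨ IsProper pY) [IsLocallyNoetherian X]
    [IsLocallyNoetherian Y] : IsLocallyNoetherian (pullback pX pY) := by
  rcases h with h | h
  · exact LocallyOfFiniteType.isLocallyNoetherian (pullback.snd pX pY)
  · exact LocallyOfFiniteType.isLocallyNoetherian (pullback.fst pX pY)

/-- Every geometric point of a cover comes from a product of connected covers. -/
theorem exists_dom_point (h : IsProper pX ∨ IsProper pY) [IsLocallyNoetherian X]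
    [IsLocallyNoetherian Y] [ConnectedSpace Y] (Z : FEt.Cat (pullback pX pY))
    {Ω : Type u} [Field Ω] [IsAlgClosed Ω] (ζ : Spec (CommRingCat.of Ω) ⟶ Z.left) :
    ∃ (D : Dom Z) (t : Spec (CommRingCat.of Ω) ⟶ pullback (D.A.hom ≫ pX) (D.B.hom ≫ pY)),
      t ≫ D.φ = ζ := by
  have : ConnectedSpace ↥(Spec (CommRingCat.of Ω)) := nonempty_of_connected_spec
  have := locallyConnectedSpace X
  let ξ : Spec (CommRingCat.of Ω) ⟶ X := ζ ≫ Z.hom ≫ pullback.fst pX pY
  let O : X.Opens := ⟨connectedComponent (ξ.base (Classical.arbitrary _)), isOpen_connectedComponent⟩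
  have hOc : IsClosedImmersion O.ι := IsClosedImmersion.of_isPreimmersion _ (by
    rw [Scheme.Opens.range_ι]; exact isClosed_connectedComponent)
  have : ConnectedSpace ↥(O : Scheme.{u}) := Subtype.connectedSpace isConnected_connectedComponent
  have : IsLocallyNoetherian (O : Scheme.{u}) := isLocallyNoetherian_of_isOpenImmersion O.ι
  let pO : (O : Scheme.{u}) ⟶ Spec (CommRingCat.of k) := O.ι ≫ pX
  have hO : IsProper pO ∨ IsProper pY := h.imp (fun hp => MorphismProperty.comp_mem @IsProper O.ι pX (haveI := hOc; inferInstance) hp) id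
  let m : pullback pO pY ⟶ pullback pX pY :=
    pullback.map pO pY pX pY O.ι (𝟙 _) (𝟙 _) (by simp [pO]) (by simp)
  have := isLocallyNoetherian_pullback hO
  let ξ' : Spec (CommRingCat.of Ω) ⟶ (O : Scheme.{u}) := IsOpenImmersion.lift O.ι ξ (by
    rw [Scheme.Opens.range_ι]
    exact (isPreconnected_range ξ.continuous).subset_connectedComponent ⟨_, rfl⟩)
  have hξ' : ξ' ≫ O.ι = ξ := IsOpenImmersion.lift_fac _ _ _
  let xy : Spec (CommRingCat.of Ω) ⟶ pullback pO pY :=
    pullback.lift ξ' (ζ ≫ Z.hom ≫ pullback.snd pX pY) (by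
      simp only [pO, reassoc_of% hξ', ξ, Category.assoc]
      exact congrArg (fun e => ζ ≫ Z.hom ≫ e) pullback.condition)
  have hxy : xy ≫ m = ζ ≫ Z.hom := by
    apply pullback.hom_ext <;> simp [xy, m, pullback.map, hξ', ξ]
  obtain ⟨W, i, z, hW, -, hz, -⟩ :=
    exists_component_lift ((FEt.restrict m).obj Z) (pullback.lift ζ xy hxy.symm : _ ⟶ ((FEt.restrict m).obj Z).left)
  let j : W.left ⟶ pullback Z.hom m := i.left
  have hj : j ≫ pullback.snd Z.hom m = W.hom := Over.w i.hom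
  have hz' : z ≫ j = pullback.lift ζ xy hxy.symm := hz
  -- domination of the component
  obtain ⟨A₀, B₀, φ₀, hφ₀, hs₀⟩ : ∃ (A₀ : FEt.Cat (O : Scheme.{u})) (B₀ : FEt.Cat Y)
      (φ₀ : pullback (A₀.hom ≫ pO) (B₀.hom ≫ pY) ⟶ W.left),
      φ₀ ≫ W.hom = pullback.map (A₀.hom ≫ pO) (B₀.hom ≫ pY) pO pY A₀.hom B₀.hom (𝟙 _)
        (Category.comp_id _) (Category.comp_id _) ∧ Surjective φ₀ := by
    rcases hO with hp | hp
    · exact exists_dominated pO pY W
    · let s := pullbackSymmetry pY pO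
      let W₂ : FEt.Cat (pullback pY pO) := MorphismProperty.Over.mk ⊤ (W.hom ≫ s.inv)
        ((MorphismProperty.cancel_right_of_respectsIso FEt.prop W.hom s.inv).mpr W.prop)
      haveI : ConnectedSpace W₂.left := hW
      obtain ⟨B₀, A₀, φ₂, h₂, hs₂⟩ := exists_dominated pY pO W₂
      refine ⟨A₀, B₀, (pullbackSymmetry _ _).hom ≫ φ₂, ?_, inferInstance⟩
      have h₂' : φ₂ ≫ W.hom ≫ s.inv = _ := h₂
      rw [← cancel_mono s.inv, Category.assoc, Category.assoc, h₂']
      apply pullback.hom_ext <;> simp [s, pullback.map]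
  -- lift the point
  let A₁ : FEt.Cat X := MorphismProperty.Over.mk ⊤ (A₀.hom ≫ O.ι)
    (MorphismProperty.comp_mem FEt.prop _ _ A₀.prop ⟨inferInstance, inferInstance⟩)
  let φ₁ : pullback (A₁.hom ≫ pX) (B₀.hom ≫ pY) ⟶ Z.left :=
    (pullback.congrHom (show A₁.hom ≫ pX = A₀.hom ≫ pO from Category.assoc _ _ _) rfl).hom ≫ φ₀ ≫ j ≫
      pullback.fst Z.hom m
  have hφ₁ : φ₁ ≫ Z.hom = pullback.map (A₁.hom ≫ pX) (B₀.hom ≫ pY) pX pY A₁.hom B₀.hom (𝟙 _)
      (Category.comp_id _) (Category.comp_id _) := by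
    simp only [φ₁, Category.assoc, pullback.condition]
    rw [reassoc_of% hj, reassoc_of% hφ₀]
    apply pullback.hom_ext <;> simp [m, pullback.map, A₁]
  let w : W.left ⟶ pullback pO pY := W.hom
  have : IsFinite w := W.prop.1
  have : IsFinite φ₀ := by
    have : IsFinite (φ₀ ≫ w) := hφ₀ ▸ (MorphismProperty.pullbackMap (P := FEt.prop) A₀.prop B₀.prop rfl rfl).1
    exact IsFinite.of_comp φ₀ w
  obtain ⟨p, hp⟩ := hs₀.surj (Fiber.point z)
  obtain ⟨t₀, ht₀, -⟩ := Conservative.exists_lift_point z φ₀ p hp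
  let t₁ : Spec (CommRingCat.of Ω) ⟶ pullback (A₁.hom ≫ pX) (B₀.hom ≫ pY) :=
    t₀ ≫ (pullback.congrHom (show A₁.hom ≫ pX = A₀.hom ≫ pO from Category.assoc _ _ _) rfl).inv
  have ht₁ : t₁ ≫ φ₁ = ζ := by
    simp only [t₁, φ₁, Category.assoc, Iso.inv_hom_id_assoc, reassoc_of% ht₀, reassoc_of% hz',
      pullback.lift_fst]
  -- pass to connected covers
  obtain ⟨A, iA, a, hA, -, ha, -⟩ := exists_component_lift A₁ (t₁ ≫ pullback.fst _ _)
  obtain ⟨B, iB, b, hB, -, hb, -⟩ := exists_component_lift B₀ (t₁ ≫ pullback.snd _ _)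
  have hwA : iA.left ≫ A₁.hom = A.hom := Over.w iA.hom
  have hwB : iB.left ≫ B₀.hom = B.hom := Over.w iB.hom
  let μ : pullback (A.hom ≫ pX) (B.hom ≫ pY) ⟶ pullback (A₁.hom ≫ pX) (B₀.hom ≫ pY) :=
    pullback.map _ _ _ _ iA.left iB.left (𝟙 _)
      (by rw [Category.comp_id, ← hwA, Category.assoc])
      (by rw [Category.comp_id, ← hwB, Category.assoc])
  let t : Spec (CommRingCat.of Ω) ⟶ pullback (A.hom ≫ pX) (B.hom ≫ pY) := pullback.lift a b (by
    rw [← hwA, ← hwB]
    simp only [Category.assoc]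
    rw [reassoc_of% ha, reassoc_of% hb]
    exact congrArg (t₁ ≫ ·) pullback.condition)
  refine ⟨⟨A, B, hA, hB, μ ≫ φ₁, ?_⟩, t, ?_⟩
  · rw [Category.assoc, hφ₁]
    apply pullback.hom_ext <;> simp [μ, pullback.map, hwA, hwB]
  · have htμ : t ≫ μ = t₁ := by
      apply pullback.hom_ext <;> simp [t, μ, pullback.map, ha, hb]
    rw [← Category.assoc, htμ, ht₁]

variable {Z : FEt.Cat (pullback pX pY)}

/-- The point `(a, g ≫ b)` of a product. -/
def Dom.pt (D : Dom Z) {T : Scheme.{u}} {y : Spec (CommRingCat.of k) ⟶ Y} (hy : y ≫ pY = 𝟙 _)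
    (a : T ⟶ D.A.left) (b : FEt.fiberObj y D.B) :
    T ⟶ pullback (D.A.hom ≫ pX) (D.B.hom ≫ pY) :=
  pullback.lift a ((a ≫ D.A.hom ≫ pX) ≫ b.1) (by
    simp only [Category.assoc, reassoc_of% b.2, hy, Category.comp_id])

/-- Points of products agreeing over `y` agree over `y'`. -/
theorem agree [IsLocallyNoetherian X] [IsLocallyNoetherian Y]
    {y y' : Spec (CommRingCat.of k) ⟶ Y} (hy : y ≫ pY = 𝟙 _) (hy' : y' ≫ pY = 𝟙 _)
    (θ : FEt.fiber y ≅ FEt.fiber y') (D D' : Dom Z)
    {Ω : Type u} [Field Ω] {ξ : Spec (CommRingCat.of Ω) ⟶ X}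
    (a : FEt.fiberObj ξ D.A) (a' : FEt.fiberObj ξ D'.A)
    (b : FEt.fiberObj y D.B) (b' : FEt.fiberObj y D'.B)
    (h : D.pt hy a.1 b ≫ D.φ = D'.pt hy a'.1 b' ≫ D'.φ) :
    D.pt hy' a.1 (θ.hom.app D.B b) ≫ D.φ = D'.pt hy' a'.1 (θ.hom.app D'.B b') ≫ D'.φ := by
  have : ConnectedSpace ↥(Spec (CommRingCat.of Ω)) := nonempty_of_connected_spec
  have : ConnectedSpace ↥(Spec (CommRingCat.of k)) := nonempty_of_connected_spec
  have eA : FEt.prop (pullback.fst D.A.hom D'.A.hom ≫ D.A.hom) :=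
    MorphismProperty.comp_mem FEt.prop _ _ (MorphismProperty.pullback_fst _ _ D'.A.prop) D.A.prop
  have eB : FEt.prop (pullback.fst D.B.hom D'.B.hom ≫ D.B.hom) :=
    MorphismProperty.comp_mem FEt.prop _ _ (MorphismProperty.pullback_fst _ _ D'.B.prop) D.B.prop
  let PA : FEt.Cat X := MorphismProperty.Over.mk ⊤ _ eA
  let PB : FEt.Cat Y := MorphismProperty.Over.mk ⊤ _ eB
  obtain ⟨A, iA, α, hA, -, hα, -⟩ := exists_component_lift PA
    (pullback.lift a.1 a'.1 (a.2.trans a'.2.symm) : _ ⟶ PA.left)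
  obtain ⟨B, iB, β, hB, -, hβ, -⟩ := exists_component_lift PB
    (pullback.lift b.1 b'.1 (b.2.trans b'.2.symm) : _ ⟶ PB.left)
  let jA : A.left ⟶ pullback D.A.hom D'.A.hom := iA.left
  let jB : B.left ⟶ pullback D.B.hom D'.B.hom := iB.left
  have hjA : jA ≫ pullback.fst _ _ ≫ D.A.hom = A.hom := Over.w iA.hom
  have hjB : jB ≫ pullback.fst _ _ ≫ D.B.hom = B.hom := Over.w iB.hom
  have hjA' : jA ≫ pullback.snd _ _ ≫ D'.A.hom = A.hom := by rw [← pullback.condition]; exact hjA
  have hjB' : jB ≫ pullback.snd _ _ ≫ D'.B.hom = B.hom := by rw [← pullback.condition]; exact hjB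
  let p₁ : B ⟶ D.B := MorphismProperty.Over.homMk (jB ≫ pullback.fst _ _) (by simp [hjB]) trivial
  let p₂ : B ⟶ D'.B := MorphismProperty.Over.homMk (jB ≫ pullback.snd _ _) (by simp [hjB']) trivial
  let βf : FEt.fiberObj y B := ⟨β, by
    have hβ' : β ≫ jB = _ := hβ
    rw [← hjB, reassoc_of% hβ', pullback.lift_fst_assoc]; exact b.2⟩
  have hβ₁ : (FEt.fiber y).map p₁ βf = b := Subtype.ext (by
    have hβ' : β ≫ jB = _ := hβ
    show β ≫ jB ≫ pullback.fst _ _ = b.1
    rw [reassoc_of% hβ', pullback.lift_fst])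
  have hβ₂ : (FEt.fiber y).map p₂ βf = b' := Subtype.ext (by
    have hβ' : β ≫ jB = _ := hβ
    show β ≫ jB ≫ pullback.snd _ _ = b'.1
    rw [reassoc_of% hβ', pullback.lift_snd])
  have : ConnectedSpace ↥(pullback (A.hom ≫ pX) (B.hom ≫ pY)) :=
    @GeomConn.connectedSpace_pullback_of_isAlgClosed k _ _ A.left B.left _ _ hA hB
  let u₁ : pullback (A.hom ≫ pX) (B.hom ≫ pY) ⟶ pullback (D.A.hom ≫ pX) (D.B.hom ≫ pY) :=
    pullback.map _ _ _ _ (jA ≫ pullback.fst _ _) (jB ≫ pullback.fst _ _) (𝟙 _)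
      (by simp [reassoc_of% hjA]) (by simp [reassoc_of% hjB])
  let u₂ : pullback (A.hom ≫ pX) (B.hom ≫ pY) ⟶ pullback (D'.A.hom ≫ pX) (D'.B.hom ≫ pY) :=
    pullback.map _ _ _ _ (jA ≫ pullback.snd _ _) (jB ≫ pullback.snd _ _) (𝟙 _)
      (by simp [reassoc_of% hjA']) (by simp [reassoc_of% hjB'])
  have hu : (u₁ ≫ D.φ) ≫ Z.hom = (u₂ ≫ D'.φ) ≫ Z.hom := by
    rw [Category.assoc, Category.assoc, D.comm, D'.comm]
    apply pullback.hom_ext <;> simp [u₁, u₂, pullback.map, hjA, hjA', hjB, hjB']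
  have hα' : α ≫ jA = pullback.lift a.1 a'.1 (a.2.trans a'.2.symm) := hα
  have hαA : α ≫ A.hom ≫ pX = ξ ≫ pX := by
    rw [← hjA]
    simp only [Category.assoc]
    rw [reassoc_of% hα', pullback.lift_fst_assoc, reassoc_of% a.2]
  let z : ∀ {w : Spec (CommRingCat.of k) ⟶ Y}, w ≫ pY = 𝟙 _ → FEt.fiberObj w B →
      (Spec (CommRingCat.of Ω) ⟶ pullback (A.hom ≫ pX) (B.hom ≫ pY)) := fun hw c =>
    pullback.lift α ((ξ ≫ pX) ≫ c.1) (by
      simp only [Category.assoc, reassoc_of% c.2, hw, Category.comp_id]; exact hαA)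
  have hz₁ : ∀ {w : Spec (CommRingCat.of k) ⟶ Y} (hw : w ≫ pY = 𝟙 _) (c : FEt.fiberObj w B),
      z hw c ≫ u₁ = D.pt hw a.1 ((FEt.fiber w).map p₁ c) := by
    intro w hw c
    apply pullback.hom_ext
    · simp [z, u₁, Dom.pt, pullback.map, reassoc_of% hα']
    · simp [z, u₁, Dom.pt, pullback.map, p₁, Fiber.map_apply, reassoc_of% a.2]
  have hz₂ : ∀ {w : Spec (CommRingCat.of k) ⟶ Y} (hw : w ≫ pY = 𝟙 _) (c : FEt.fiberObj w B),
      z hw c ≫ u₂ = D'.pt hw a'.1 ((FEt.fiber w).map p₂ c) := by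
    intro w hw c
    apply pullback.hom_ext
    · simp [z, u₂, Dom.pt, pullback.map, reassoc_of% hα']
    · simp [z, u₂, Dom.pt, pullback.map, p₂, Fiber.map_apply, reassoc_of% a'.2]
  let zh : Z.left ⟶ pullback pX pY := Z.hom
  have : IsFinite zh := Z.prop.1
  have : Etale zh := Z.prop.2
  have heq : u₁ ≫ D.φ = u₂ ≫ D'.φ :=
    Basic.eq_of_preconnected zh (u₁ ≫ D.φ) (u₂ ≫ D'.φ) hu (z hy βf) (by
      rw [← Category.assoc, ← Category.assoc, hz₁, hz₂, hβ₁, hβ₂]
      exact h)
  have hn₁ := congrArg (fun f => f βf) (θ.hom.naturality p₁)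
  have hn₂ := congrArg (fun f => f βf) (θ.hom.naturality p₂)
  simp only [CategoryTheory.comp_apply, hβ₁] at hn₁
  simp only [CategoryTheory.comp_apply, hβ₂] at hn₂
  rw [hn₁, hn₂, ← hz₁ hy', ← hz₂ hy', Category.assoc, Category.assoc, heq]

/-- The cover induced at a rational point. -/
abbrev atPoint (Z : FEt.Cat (pullback pX pY)) (y : Spec (CommRingCat.of k) ⟶ Y)
    (hy : 𝟙 X ≫ pX = (pX ≫ y) ≫ pY) : FEt.Cat X :=
  (FEt.restrict (pullback.lift (𝟙 X) (pX ≫ y) hy)).obj Z

theorem atPoint_cond {y : Spec (CommRingCat.of k) ⟶ Y} (hy : y ≫ pY = 𝟙 _) :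
    𝟙 X ≫ pX = (pX ≫ y) ≫ pY := by simp [hy]

variable {y y' : Spec (CommRingCat.of k) ⟶ Y}

/-- The morphism from a cover given by a product and a rational point. -/
def toAtPoint (hy : y ≫ pY = 𝟙 _) (D : Dom Z) (b : FEt.fiberObj y D.B) :
    D.A ⟶ atPoint Z y (atPoint_cond hy) :=
  MorphismProperty.Over.homMk
    (pullback.lift (D.pt hy (𝟙 _) b ≫ D.φ) D.A.hom (by
      rw [Category.assoc, D.comm]
      apply pullback.hom_ext
      · simp only [Dom.pt, pullback.map, Category.assoc, pullback.lift_fst, pullback.lift_fst_assoc]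
        exact (Category.id_comp _).trans (Category.comp_id _).symm
      · simp [Dom.pt, pullback.map, b.2]))
    (pullback.lift_snd _ _ _) trivial

theorem point_toAtPoint (hy : y ≫ pY = 𝟙 _) (D : Dom Z) (b : FEt.fiberObj y D.B)
    {T : Scheme.{u}} (a : T ⟶ D.A.left) :
    (a ≫ (toAtPoint hy D b).left) ≫
        pullback.fst Z.hom (pullback.lift (𝟙 X) (pX ≫ y) (atPoint_cond hy)) = D.pt hy a b ≫ D.φ := by
  show (a ≫ pullback.lift _ _ _) ≫ pullback.fst _ _ = _
  rw [Category.assoc, pullback.lift_fst, ← Category.assoc]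
  congr 1
  apply pullback.hom_ext <;> simp [Dom.pt]

/-- The finite etale covers at two rational points are isomorphic. -/
theorem nonempty_iso (hprop : IsProper pX ∨ IsProper pY) [IsLocallyNoetherian X]
    [IsLocallyNoetherian Y] [ConnectedSpace Y] (Z : FEt.Cat (pullback pX pY))
    (hy : y ≫ pY = 𝟙 _) (hy' : y' ≫ pY = 𝟙 _) :
    Nonempty (atPoint Z y (atPoint_cond hy) ≅ atPoint Z y' (atPoint_cond hy')) := by
  classical
  obtain ⟨θ⟩ := FiberUnique.nonempty_fiber_iso y y'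
  let W := atPoint Z y (atPoint_cond hy)
  let W' := atPoint Z y' (atPoint_cond hy')
  let P : FEt.Cat X := MorphismProperty.Over.mk ⊤ (pullback.fst W.hom W'.hom ≫ W.hom)
    (MorphismProperty.comp_mem FEt.prop _ _ (MorphismProperty.pullback_fst _ _ W'.prop) W.prop)
  let pr₁ : P ⟶ W := MorphismProperty.Over.homMk (pullback.fst W.hom W'.hom) rfl trivial
  let pr₂ : P ⟶ W' := MorphismProperty.Over.homMk (pullback.snd W.hom W'.hom)
    pullback.condition.symm trivial
  let pair : ∀ (D : Dom Z) (b : FEt.fiberObj y D.B), D.A ⟶ P := fun D b =>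
    MorphismProperty.Over.homMk (pullback.lift (toAtPoint hy D b).left
      (toAtPoint hy' D (θ.hom.app D.B b)).left
      ((Over.w (toAtPoint hy D b).hom).trans (Over.w (toAtPoint hy' D (θ.hom.app D.B b)).hom).symm))
      (by
        show _ ≫ pullback.fst W.hom W'.hom ≫ W.hom = _
        rw [pullback.lift_fst_assoc]; exact Over.w (toAtPoint hy D b).hom) trivial
  let S : Set P.left := ⋃ (D : Dom Z) (b : FEt.fiberObj y D.B), Set.range (pair D b).left.base
  have hrange : ∀ D b, IsClopen (Set.range (pair D b).left.base) := fun D b => by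
    have := Basic.isFinite_left (pair D b)
    have := Basic.etale_left (pair D b)
    rw [← Set.image_univ]
    exact Basic.isClopen_image _ isClopen_univ
  have hSo : IsOpen S := isOpen_iUnion fun D => isOpen_iUnion fun b => (hrange D b).2
  have hSc : IsClosed S := by
    have := isLocallyNoetherian_left P
    have := locallyConnectedSpace P.left
    refine ⟨isOpen_iff_forall_mem_open.mpr fun p hp => ⟨connectedComponent p, fun q hq hqS => ?_,
      isOpen_connectedComponent, mem_connectedComponent⟩⟩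
    obtain ⟨D, b, hq'⟩ : ∃ D b, q ∈ Set.range (pair D b).left.base := by simpa [S] using hqS
    exact hp (Set.mem_iUnion₂.mpr ⟨D, b, (hrange D b).connectedComponent_subset hq'
      (connectedComponent_eq hq ▸ mem_connectedComponent)⟩)
  let O : P.left.Opens := ⟨S, hSo⟩
  let G := Summand.clopenSub P O hSc
  let ι := Summand.clopenIncl P O hSc
  have hpoint : ∀ {Ω : Type u} [Field Ω] [IsAlgClosed Ω] (ξ : Spec (CommRingCat.of Ω) ⟶ X)
      (s : FEt.fiberObj ξ G), ∃ (D : Dom Z) (b : FEt.fiberObj y D.B) (a : FEt.fiberObj ξ D.A),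
        a.1 ≫ (pair D b).left = s.1 ≫ ι.left := by
    intro Ω _ _ ξ s
    have hs : Fiber.point (s.1 ≫ ι.left) ∈ S := (s.1.base (IsLocalRing.closedPoint Ω)).2
    obtain ⟨D, b, p, hp⟩ : ∃ D b, Fiber.point (s.1 ≫ ι.left) ∈ Set.range (pair D b).left.base := by
      simpa [S] using hs
    have := Basic.isFinite_left (pair D b)
    obtain ⟨a, ha, -⟩ := Conservative.exists_lift_point (s.1 ≫ ι.left) (pair D b).left p hp
    refine ⟨D, b, ⟨a, ?_⟩, ha⟩
    refine (congrArg (a ≫ ·) (Over.w (pair D b).hom).symm).trans ?_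
    exact ((reassoc_of% ha) P.hom).trans ((congrArg (s.1 ≫ ·) (Over.w ι.hom)).trans s.2)
  have hG : ∀ {Ω : Type u} [Field Ω] (ξ : Spec (CommRingCat.of Ω) ⟶ X) (D : Dom Z)
      (b : FEt.fiberObj y D.B) (a : FEt.fiberObj ξ D.A),
      ∃ s : FEt.fiberObj ξ G, s.1 ≫ ι.left = a.1 ≫ (pair D b).left := by
    intro Ω _ ξ D b a
    have hr : Set.range (a.1 ≫ (pair D b).left).base ⊆ Set.range O.ι.base := by
      rw [Scheme.Opens.range_ι]
      rintro _ ⟨q, rfl⟩
      exact Set.mem_iUnion₂.mpr ⟨D, b, ⟨a.1.base q, rfl⟩⟩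
    refine ⟨⟨IsOpenImmersion.lift O.ι _ hr, ?_⟩, IsOpenImmersion.lift_fac _ _ _⟩
    show IsOpenImmersion.lift O.ι _ hr ≫ O.ι ≫ P.hom = ξ
    rw [IsOpenImmersion.lift_fac_assoc]
    exact (Category.assoc _ _ _).trans ((congrArg (a.1 ≫ ·) (Over.w (pair D b).hom)).trans a.2)
  have hext : ∀ {Ω : Type u} [Field Ω] {ξ : Spec (CommRingCat.of Ω) ⟶ X}
      {s t : FEt.fiberObj ξ G}, (s.1 ≫ ι.left) ≫ pullback.fst W.hom W'.hom =
        (t.1 ≫ ι.left) ≫ pullback.fst W.hom W'.hom →
      (s.1 ≫ ι.left) ≫ pullback.snd W.hom W'.hom = (t.1 ≫ ι.left) ≫ pullback.snd W.hom W'.hom →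
      s = t := fun h₁ h₂ => Subtype.ext ((cancel_mono O.ι).1 (pullback.hom_ext h₁ h₂))
  let K : X → Type u := fun x => AlgebraicClosure (X.residueField x)
  let ξs : ∀ x : X, Spec (CommRingCat.of (K x)) ⟶ X := fun x => Spec.map (CommRingCat.ofHom
    (algebraMap (X.residueField x) (AlgebraicClosure (X.residueField x)))) ≫ X.fromSpecResidueField x
  have hfst : ∀ D b, (pair D b).left ≫ pullback.fst W.hom W'.hom = (toAtPoint hy D b).left :=
    fun D b => pullback.lift_fst _ _ _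
  have hsnd : ∀ D b, (pair D b).left ≫ pullback.snd W.hom W'.hom =
      (toAtPoint hy' D (θ.hom.app D.B b)).left := fun D b => pullback.lift_snd _ _ _
  have θi : ∀ (B : FEt.Cat Y) (b : FEt.fiberObj y' B), θ.hom.app B (θ.inv.app B b) = b :=
    fun B b => congrArg (fun f => f b) (θ.inv_hom_id_app B)
  have θi' : ∀ (B : FEt.Cat Y) (b : FEt.fiberObj y B), θ.inv.app B (θ.hom.app B b) = b :=
    fun B b => congrArg (fun f => f b) (θ.hom_inv_id_app B)
  -- existence of preimages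
  have hex : ∀ {w : Spec (CommRingCat.of k) ⟶ Y} (hw : w ≫ pY = 𝟙 _) (x : X)
      (s : FEt.fiberObj (ξs x) (atPoint Z w (atPoint_cond hw))),
      ∃ (D : Dom Z) (b : FEt.fiberObj w D.B) (a : FEt.fiberObj (ξs x) D.A),
        a.1 ≫ (toAtPoint hw D b).left = s.1 := by
    intro w hw x s
    let sl : Spec (CommRingCat.of (K x)) ⟶
      pullback Z.hom (pullback.lift (𝟙 X) (pX ≫ w) (atPoint_cond hw)) := s.1
    obtain ⟨D, t, ht⟩ := exists_dom_point hprop Z (sl ≫ pullback.fst _ _)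
    have hsl : sl ≫ pullback.snd _ _ = ξs x := s.2
    have he : t ≫ pullback.map (D.A.hom ≫ pX) (D.B.hom ≫ pY) pX pY D.A.hom D.B.hom (𝟙 _)
        (Category.comp_id _) (Category.comp_id _) =
        ξs x ≫ pullback.lift (𝟙 X) (pX ≫ w) (atPoint_cond hw) := by
      rw [← D.comm, reassoc_of% ht, pullback.condition, reassoc_of% hsl]
    have h1 : (t ≫ pullback.fst _ _) ≫ D.A.hom = ξs x := by
      simpa [pullback.map] using congrArg (· ≫ pullback.fst pX pY) he
    have h2 : (t ≫ pullback.snd _ _) ≫ D.B.hom = (ξs x ≫ pX) ≫ w := by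
      simpa [pullback.map] using congrArg (· ≫ pullback.snd pX pY) he
    obtain ⟨b, hb⟩ := exists_rational_point w D.B _ _ h2
    refine ⟨D, b, ⟨t ≫ pullback.fst _ _, h1⟩, pullback.hom_ext ?_ ?_⟩
    · rw [point_toAtPoint, ← ht]
      congr 1
      have h1' := (Category.assoc t _ D.A.hom).symm.trans h1
      apply pullback.hom_ext
      · simp [Dom.pt]
      · simp [Dom.pt, reassoc_of% h1', ← hb]
    · rw [Category.assoc]
      exact (congrArg (_ ≫ ·) (Over.w (toAtPoint hw D b).hom)).trans (h1.trans s.2.symm)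
  have main : ∀ x : X, Function.Bijective ((FEt.fiber (ξs x)).map (ι ≫ pr₁)) ∧
      Function.Bijective ((FEt.fiber (ξs x)).map (ι ≫ pr₂)) := by
    intro x
    refine ⟨⟨fun s t hst => ?_, fun s => ?_⟩, ⟨fun s t hst => ?_, fun s => ?_⟩⟩
    · obtain ⟨D, b, a, ha⟩ := hpoint (ξs x) s
      obtain ⟨D', b', a', ha'⟩ := hpoint (ξs x) t
      have h : (s.1 ≫ ι.left) ≫ pullback.fst W.hom W'.hom =
          (t.1 ≫ ι.left) ≫ pullback.fst W.hom W'.hom := by
        simp only [Category.assoc]; exact congrArg Subtype.val hst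
      refine hext h (pullback.hom_ext ?_ ?_)
      · rw [← ha, ← ha', Category.assoc a.1, hfst, Category.assoc a'.1, hfst] at h
        rw [← ha, ← ha', Category.assoc a.1, hsnd, Category.assoc a'.1, hsnd,
          point_toAtPoint, point_toAtPoint]
        refine agree hy hy' θ D D' a a' b b' ?_
        simpa only [point_toAtPoint] using congrArg (· ≫ pullback.fst Z.hom _) h
      · simp only [Category.assoc]
        rw [show pullback.snd W.hom W'.hom ≫ pullback.snd Z.hom _ = P.hom from pullback.condition.symm]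
        exact ((congrArg (s.1 ≫ ·) (Over.w ι.hom)).trans s.2).trans
          ((congrArg (t.1 ≫ ·) (Over.w ι.hom)).trans t.2).symm
    · obtain ⟨D, b, a, ha⟩ := hex hy x s
      obtain ⟨q, hq⟩ := hG (ξs x) D b a
      refine ⟨q, Subtype.ext ?_⟩
      show q.1 ≫ ι.left ≫ pullback.fst W.hom W'.hom = s.1
      rw [reassoc_of% hq, hfst, ha]
    · obtain ⟨D, b, a, ha⟩ := hpoint (ξs x) s
      obtain ⟨D', b', a', ha'⟩ := hpoint (ξs x) t
      have h : (s.1 ≫ ι.left) ≫ pullback.snd W.hom W'.hom =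
          (t.1 ≫ ι.left) ≫ pullback.snd W.hom W'.hom := by
        simp only [Category.assoc]; exact congrArg Subtype.val hst
      refine hext (pullback.hom_ext ?_ ?_) h
      · rw [← ha, ← ha', Category.assoc a.1, hsnd, Category.assoc a'.1, hsnd] at h
        rw [← ha, ← ha', Category.assoc a.1, hfst, Category.assoc a'.1, hfst,
          point_toAtPoint, point_toAtPoint, ← θi' D.B b, ← θi' D'.B b']
        refine agree hy' hy θ.symm D D' a a' _ _ ?_
        simpa only [point_toAtPoint] using congrArg (· ≫ pullback.fst Z.hom _) h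
      · simp only [Category.assoc]
        exact ((congrArg (s.1 ≫ ·) (Over.w ι.hom)).trans s.2).trans
          ((congrArg (t.1 ≫ ·) (Over.w ι.hom)).trans t.2).symm
    · obtain ⟨D, b, a, ha⟩ := hex hy' x s
      obtain ⟨q, hq⟩ := hG (ξs x) D (θ.inv.app D.B b) a
      refine ⟨q, Subtype.ext ?_⟩
      show q.1 ≫ ι.left ≫ pullback.snd W.hom W'.hom = s.1
      rw [reassoc_of% hq, hsnd, θi, ha]
  have e₁ : IsIso (ι ≫ pr₁) :=
    Conservative.isIso_of_bijective ξs (GaloisCat.meetsClopens_points X) _ fun x => (main x).1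
  have e₂ : IsIso (ι ≫ pr₂) :=
    Conservative.isIso_of_bijective ξs (GaloisCat.meetsClopens_points X) _ fun x => (main x).2
  exact ⟨(asIso (ι ≫ pr₁)).symm ≪≫ asIso (ι ≫ pr₂)⟩

end Groth.Agent.Lib.Kunneth
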