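import Groth.Agent.Lib.Kunneth.Sheets
import Groth.Agent.H34.Comparison.Descent

/-!
# A split component of a fibre spreads out
-/

set_option autoImplicit false
set_option backward.isDefEq.respectTransparency false

noncomputable section

universe u

open CategoryTheory CategoryTheory.Limits AlgebraicGeometry

namespace Groth.Agent.Lib.Kunneth.FibreComponent

open Groth.Agent.Lib.Kunneth.Sheets (gpt gpt_apply gpt_point exists_factor)

/-- A geometric point lifts along a map of finite type as soon as its image does. -/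
theorem exists_lift {X Y : Scheme.{u}} (f : X ⟶ Y) [LocallyOfFiniteType f] [QuasiCompact f]
    {K : Type u} [Field K] [IsAlgClosed K] (y : Spec (CommRingCat.of K) ⟶ Y) (x : X)
    (h : f.base x = FEt.Fiber.point y) : ∃ a : Spec (CommRingCat.of K) ⟶ X, a ≫ f = y := by
  obtain ⟨t, -, -⟩ := Scheme.Pullback.exists_preimage_pullback (f := f) (g := y) x
    (IsLocalRing.closedPoint K) h
  have : CompactSpace ↥(pullback f y) := QuasiCompact.compactSpace_of_compactSpace (pullback.snd f y)
  obtain ⟨x₀, -, hx₀⟩ := (isClosed_univ (X := ↥(pullback f y))).exists_closed_singleton ⟨t, trivial⟩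
  exact ⟨pointOfClosedPoint (pullback.snd f y) x₀ hx₀ ≫ pullback.fst f y, by
    rw [Category.assoc, pullback.condition, pointOfClosedPoint_comp_assoc]⟩

theorem range_subset_of_point {Y : Scheme.{u}} {K : Type u} [Field K]
    (a : Spec (CommRingCat.of K) ⟶ Y) {U : Set Y} (h : FEt.Fiber.point a ∈ U) :
    Set.range a.base ⊆ U := by
  rintro _ ⟨t, rfl⟩
  rwa [Subsingleton.elim (α := PrimeSpectrum K) t (IsLocalRing.closedPoint K)]

variable {X X' S : Scheme.{u}} (f : X ⟶ S) [IsProper f] (g : X' ⟶ X) [IsProper g] (s : S)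

abbrev q' : X' ⟶ (g ≫ f).normalization := (g ≫ f).toNormalization
abbrev π : (g ≫ f).normalization ⟶ S := (g ≫ f).fromNormalization

instance isProper_q' : IsProper (q' f g) := by
  have : IsProper ((g ≫ f).toNormalization ≫ (g ≫ f).fromNormalization) := by
    rw [Scheme.Hom.toNormalization_fromNormalization]; infer_instance
  exact IsProper.of_comp _ (g ≫ f).fromNormalization

instance connected_q' : GeometricallyConnected (q' f g) := (S0388.result (g ≫ f)).1

/-- A point of a component is connected to the points over the same point of the Stein factor. -/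
theorem subset_component (C : (pullback (g ≫ f) (S.fromSpecResidueField s)).Opens)
    (hCcl : IsClosed (C : Set ↥(pullback (g ≫ f) (S.fromSpecResidueField s)))) [ConnectedSpace ↥C] :
    ∃ n : (g ≫ f).normalization, (π f g).base n = s ∧
      (∀ c : C, (q' f g).base ((pullback.fst (g ≫ f) (S.fromSpecResidueField s)).base c.1) = n) ∧
      ∀ x' : X', (q' f g).base x' = n →
        ∃ c : C, (pullback.fst (g ≫ f) (S.fromSpecResidueField s)).base c.1 = x' := by
  let iS := S.fromSpecResidueField s
  let fs := pullback.fst (g ≫ f) iS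
  let h : (C : Scheme.{u}) ⟶ (g ≫ f).normalization := C.ι ≫ fs ≫ q' f g
  have hh : h ≫ π f g = (C.ι ≫ pullback.snd (g ≫ f) iS) ≫ iS := by
    simp only [h, Category.assoc, Scheme.Hom.toNormalization_fromNormalization]
    exact congrArg (C.ι ≫ ·) pullback.condition
  haveI : PreconnectedSpace ↥(C : Scheme.{u}) := inferInstanceAs (PreconnectedSpace ↥C)
  have hsub := Trivial.subsingleton_range_integral (π f g) iS h _ hh
  obtain ⟨c₀⟩ := (inferInstance : Nonempty ↥C)
  let n := (q' f g).base (fs.base c₀.1)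
  have hn : ∀ c : C, (q' f g).base (fs.base c.1) = n := fun c => hsub ⟨c, rfl⟩ ⟨c₀, rfl⟩
  have hns : (π f g).base n = s := by
    have e := congrArg (fun r => r.base c₀) hh
    exact e.trans (Scheme.fromSpecResidueField_apply s _)
  refine ⟨n, hns, hn, fun x' hx' => ?_⟩
  let Z : Set X' := (q' f g).base ⁻¹' {n}
  have hZ : _root_.IsConnected Z := (q' f g).isConnected_preimage_singleton n
  have hsubr : Z ⊆ Set.range fs.base := by
    intro z hz
    rw [Scheme.Pullback.range_fst]
    refine ⟨IsLocalRing.closedPoint _, (Scheme.fromSpecResidueField_apply s _).trans ?_⟩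
    rw [← hns, ← show (q' f g).base z = n from hz, ← Scheme.Hom.comp_apply,
      Scheme.Hom.toNormalization_fromNormalization]
  haveI : IsPreimmersion fs := inferInstanceAs (IsPreimmersion (pullback.fst (g ≫ f) iS))
  have hpre : _root_.IsPreconnected (fs.base ⁻¹' Z) := by
    rw [← fs.isEmbedding.isInducing.isPreconnected_image, Set.image_preimage_eq_of_subset hsubr]
    exact hZ.isPreconnected
  obtain ⟨y, hy⟩ := hsubr hx'
  have hyC : y ∈ C := hpre.subset_isClopen ⟨hCcl, C.2⟩ ⟨c₀.1, rfl, c₀.2⟩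
    (show fs.base y ∈ Z from hy.symm ▸ hx')
  exact ⟨⟨y, hyC⟩, hy⟩

/-- Two geometric points over the point of a split component agreeing in `X` and in the Stein factor
are equal. -/
theorem eq_over_component (C : (pullback (g ≫ f) (S.fromSpecResidueField s)).Opens)
    (n : (g ≫ f).normalization) (hns : (π f g).base n = s)
    (hnC : ∀ x' : X', (q' f g).base x' = n →
        ∃ c : C, (pullback.fst (g ≫ f) (S.fromSpecResidueField s)).base c.1 = x')
    (hC : IsClosed (C : Set ↥(pullback (g ≫ f) (S.fromSpecResidueField s))))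
    (cm : (C : Scheme.{u}) ⟶ pullback f (S.fromSpecResidueField s)) [IsFinite cm]
    (hcm₁ : cm ≫ pullback.fst _ _ = C.ι ≫ pullback.fst _ _ ≫ g)
    (hcm₂ : cm ≫ pullback.snd _ _ = C.ι ≫ pullback.snd _ _)
    (hsheet : ∀ p : ↥(pullback cm (pullback.fst (pullback.snd f (S.fromSpecResidueField s))
        (Spec.map (CommRingCat.ofHom (algebraMap (S.residueField s) (AlgebraicClosure (S.residueField s))))))),
      ∃ σ : pullback (pullback.snd f (S.fromSpecResidueField s))
          (Spec.map (CommRingCat.ofHom (algebraMap (S.residueField s) (AlgebraicClosure (S.residueField s))))) ⟶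
          pullback cm (pullback.fst (pullback.snd f (S.fromSpecResidueField s))
            (Spec.map (CommRingCat.ofHom (algebraMap (S.residueField s) (AlgebraicClosure (S.residueField s)))))),
        σ ≫ pullback.snd _ _ = 𝟙 _ ∧ IsClosedImmersion σ ∧ Set.range σ.base = connectedComponent p)
    {K : Type u} [Field K] [IsAlgClosed K] (w₀ w₁ : Spec (CommRingCat.of K) ⟶ X')
    (hg : w₀ ≫ g = w₁ ≫ g) (hq : w₀ ≫ q' f g = w₁ ≫ q' f g)
    (hn : FEt.Fiber.point (w₀ ≫ q' f g) = n) : w₀ = w₁ := by
  let iS := S.fromSpecResidueField s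
  let gbar := Spec.map (CommRingCat.ofHom (algebraMap (S.residueField s) (AlgebraicClosure (S.residueField s))))
  let z₀ := w₀ ≫ q' f g
  let ξ := z₀ ≫ π f g
  obtain ⟨⟨s', φ⟩, hξ⟩ := (Scheme.SpecToEquivOfField K S).symm.surjective ξ
  have hs' : s' = s := by
    have h1 : FEt.Fiber.point ξ = s' := by
      rw [← hξ]
      exact Scheme.fromSpecResidueField_apply s' _
    rw [← h1]
    exact (congrArg (π f g).base hn).trans hns
  subst hs'
  let t : Spec (CommRingCat.of K) ⟶ Spec (S.residueField s') := Spec.map φ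
  have ht : t ≫ iS = ξ := hξ
  letI : Algebra (S.residueField s') K := φ.hom.toAlgebra
  let ψ : AlgebraicClosure (S.residueField s') →ₐ[S.residueField s'] K := IsAlgClosed.lift
  let τ : Spec (CommRingCat.of K) ⟶ Spec (CommRingCat.of (AlgebraicClosure (S.residueField s'))) :=
    Spec.map (CommRingCat.ofHom ψ.toRingHom)
  have hτ : τ ≫ gbar = t := by
    rw [← Spec.map_comp]
    exact congrArg Spec.map (CommRingCat.hom_ext ψ.comp_algebraMap)
  let Z := pullback (q' f g) z₀
  have : ConnectedSpace ↥Z :=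
    GeometricallyConnected.geometrically_connectedSpace (f := q' f g) _ _ _ (IsPullback.of_hasPullback (q' f g) z₀)
  let zF : Z ⟶ pullback (g ≫ f) iS := pullback.lift (pullback.fst _ _) (pullback.snd _ _ ≫ t) (by
    rw [Category.assoc, ht, ← pullback.condition_assoc, Scheme.Hom.toNormalization_fromNormalization])
  have hzC : Set.range zF.base ⊆ Set.range C.ι.base := by
    rw [Scheme.Opens.range_ι]
    rintro _ ⟨z, rfl⟩
    have hz : (q' f g).base ((pullback.fst (q' f g) z₀).base z) = n := by
      rw [← Scheme.Hom.comp_apply, pullback.condition, Scheme.Hom.comp_apply]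
      exact (congrArg z₀.base (Subsingleton.elim (α := PrimeSpectrum K) _ _)).trans hn
    obtain ⟨c, hc⟩ := hnC _ hz
    haveI : IsPreimmersion (pullback.fst (g ≫ f) iS) := inferInstance
    have : zF.base z = c.1 := (pullback.fst (g ≫ f) iS).isEmbedding.injective (by
      rw [hc, ← Scheme.Hom.comp_apply, pullback.lift_fst])
    rw [this]; exact c.2
  let cz : Z ⟶ (C : Scheme.{u}) := IsOpenImmersion.lift C.ι zF hzC
  have hcz : cz ≫ C.ι = zF := IsOpenImmersion.lift_fac _ _ _
  let P := pullback (pullback.snd f iS) gbar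
  let a : Z ⟶ pullback cm (pullback.fst (pullback.snd f iS) gbar) :=
    pullback.lift cz (pullback.lift (cz ≫ cm) (pullback.snd _ _ ≫ τ) (by
      rw [Category.assoc, hcm₂, reassoc_of% hcz, pullback.lift_snd, Category.assoc, hτ]))
      (pullback.lift_fst _ _ _).symm
  let y₀ : Spec (CommRingCat.of K) ⟶ Z := pullback.lift w₀ (𝟙 _) (Category.id_comp _).symm
  let y₁ : Spec (CommRingCat.of K) ⟶ Z := pullback.lift w₁ (𝟙 _) (hq.symm.trans (Category.id_comp _).symm)
  obtain ⟨σ, hσ, _, hσr⟩ := hsheet (FEt.Fiber.point (y₀ ≫ a))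
  have hfac : ∀ v : Spec (CommRingCat.of K) ⟶ pullback cm (pullback.fst (pullback.snd f iS) gbar),
      FEt.Fiber.point v ∈ Set.range σ.base → (v ≫ pullback.snd _ _) ≫ σ = v := by
    intro v hv
    obtain ⟨u, hu⟩ := exists_factor σ v hv
    rw [← hu, Category.assoc, Category.assoc, reassoc_of% hσ]
  have e₀ := hfac (y₀ ≫ a) (hσr ▸ mem_connectedComponent)
  have e₁ := hfac (y₁ ≫ a) (by
    rw [hσr]
    exact (isPreconnected_range a.continuous).subset_connectedComponent ⟨_, rfl⟩ ⟨_, rfl⟩)
  have hcm : ∀ {T : Scheme.{u}} (y : T ⟶ Z), (y ≫ cz ≫ cm) ≫ pullback.fst _ _ =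
      y ≫ pullback.fst (q' f g) z₀ ≫ g := by
    intro T y
    rw [Category.assoc, Category.assoc, hcm₁, reassoc_of% hcz, pullback.lift_fst_assoc]
  have hsnd : (y₀ ≫ a) ≫ pullback.snd _ _ = (y₁ ≫ a) ≫ pullback.snd _ _ := by
    simp only [a, Category.assoc, pullback.lift_snd]
    apply pullback.hom_ext
    · simp only [Category.assoc, pullback.lift_fst]
      apply pullback.hom_ext
      · rw [hcm, hcm, pullback.lift_fst_assoc, pullback.lift_fst_assoc, hg]
      · have e' : ∀ {T : Scheme.{u}} (y : T ⟶ Z), y ≫ cz ≫ cm ≫ pullback.snd f iS =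
            y ≫ pullback.snd (q' f g) z₀ ≫ t := fun y => by
          rw [show cm ≫ pullback.snd f iS = C.ι ≫ pullback.snd (g ≫ f) iS from hcm₂, reassoc_of% hcz,
            pullback.lift_snd]
        simp only [Category.assoc]
        rw [e', e', pullback.lift_snd_assoc, pullback.lift_snd_assoc]
    · simp [y₀, y₁]
  have he : y₀ ≫ a = y₁ ≫ a := by rw [← e₀, ← e₁, hsnd]
  have h2 := congrArg (· ≫ pullback.fst _ _ ≫ C.ι ≫ pullback.fst (g ≫ f) iS) he
  simp only [a, Category.assoc, pullback.lift_fst_assoc, reassoc_of% hcz, pullback.lift_fst, zF, y₀, y₁] at h2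
  exact h2

variable [Surjective f] [LocallyOfFinitePresentation f]

/-- A point of the Stein factor with all preimages in the etale locus and injective geometric fibre
has a neighbourhood over which the sheets spread. -/
theorem exists_nhd
    (hconn : ∀ (Ω : Type u) [Field Ω] [IsAlgClosed Ω] (σ : Spec (CommRingCat.of Ω) ⟶ S), ConnectedSpace ↥(pullback f σ))
    (n : (g ≫ f).normalization) (het : ∀ x' : X', (q' f g).base x' = n → x' ∈ Pi1X.etaleLocus g)
    (hinj : ∀ (K : Type u) [Field K] [IsAlgClosed K] (w₀ w₁ : Spec (CommRingCat.of K) ⟶ X'),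
      w₀ ≫ g = w₁ ≫ g → w₀ ≫ q' f g = w₁ ≫ q' f g → FEt.Fiber.point (w₀ ≫ q' f g) = n → w₀ = w₁) :
    ∃ N : (g ≫ f).normalization.Opens, n ∈ N ∧
      ∃ (S₁ : Scheme.{u}) (e : S₁ ⟶ S) (_ : Etale e)
        (φ : ((q' f g ⁻¹ᵁ N : X'.Opens) : Scheme.{u}) ≅ pullback f e),
        φ.hom ≫ pullback.fst f e = (q' f g ⁻¹ᵁ N).ι ≫ g := by
  let E := Pi1X.etaleLocus g
  let gE : (E : Scheme.{u}) ⟶ X := E.ι ≫ g
  have : Etale gE := H34.Comparison.etale_etaleLocus g
  let r₀ : X' ⟶ pullback f (π f g) :=
    pullback.lift g (q' f g) (Scheme.Hom.toNormalization_fromNormalization _).symm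
  have : IsProper r₀ := by
    have : IsProper (r₀ ≫ pullback.fst f (π f g)) := by rw [pullback.lift_fst]; infer_instance
    exact IsProper.of_comp r₀ (pullback.fst f (π f g))
  let R := pullback r₀ r₀
  let jR : R ⟶ pullback g g := pullback.lift (pullback.fst r₀ r₀) (pullback.snd r₀ r₀) (by
    simpa [r₀] using congrArg (· ≫ pullback.fst f (π f g)) (pullback.condition (f := r₀) (g := r₀)))
  let mE : pullback gE gE ⟶ pullback g g :=
    pullback.map gE gE g g E.ι E.ι (𝟙 _) (Category.comp_id _) (Category.comp_id _)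
  have : IsOpenImmersion mE :=
    MorphismProperty.pullbackMap (P := @IsOpenImmersion) (inferInstanceAs (IsOpenImmersion E.ι))
      (inferInstanceAs (IsOpenImmersion E.ι)) rfl rfl
  have hdm : pullback.diagonal gE ≫ mE = E.ι ≫ pullback.diagonal g := by
    apply pullback.hom_ext <;> simp [mE, pullback.map]
  let OΔ : Set ↥(pullback g g) := Set.range (pullback.diagonal gE ≫ mE).base
  have hOΔ : IsOpen OΔ := (pullback.diagonal gE ≫ mE).isOpenEmbedding.isOpen_range
  let B : Set ↥R := (jR.base ⁻¹' OΔ)ᶜ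
  have hB : IsClosed B := (hOΔ.preimage jR.continuous).isClosed_compl
  haveI : IsProper (pullback.fst r₀ r₀ ≫ q' f g) := inferInstance
  let Bn := (pullback.fst r₀ r₀ ≫ q' f g).base '' B
  let Bad := (q' f g).base '' (E : Set X')ᶜ
  have hBn : IsClosed Bn := (pullback.fst r₀ r₀ ≫ q' f g).isClosedMap _ hB
  have hBad : IsClosed Bad := (q' f g).isClosedMap _ E.2.isClosed_compl
  let N : (g ≫ f).normalization.Opens := ⟨Bnᶜ ∩ Badᶜ, hBn.isOpen_compl.inter hBad.isOpen_compl⟩
  have hn : n ∈ N := by
    refine ⟨?_, fun ⟨x', hx', hx''⟩ => hx' (het x' hx'')⟩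
    rintro ⟨z, hz, hzn⟩
    have hc := congrArg (gpt z ≫ ·) (pullback.condition (f := r₀) (g := r₀))
    have hgg : (gpt z ≫ pullback.fst r₀ r₀) ≫ g = (gpt z ≫ pullback.snd r₀ r₀) ≫ g := by
      simpa [r₀] using congrArg (· ≫ pullback.fst f (π f g)) hc
    have hqq : (gpt z ≫ pullback.fst r₀ r₀) ≫ q' f g = (gpt z ≫ pullback.snd r₀ r₀) ≫ q' f g := by
      simpa [r₀] using congrArg (· ≫ pullback.snd f (π f g)) hc
    have hpt : FEt.Fiber.point ((gpt z ≫ pullback.fst r₀ r₀) ≫ q' f g) = n := by
      rw [Category.assoc]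
      exact (congrArg (pullback.fst r₀ r₀ ≫ q' f g).base (gpt_point z)).trans hzn
    have hw := hinj _ _ _ hgg hqq hpt
    let w := gpt z ≫ pullback.fst r₀ r₀
    have hwE : FEt.Fiber.point w ∈ E := het _ hpt
    refine hz ⟨⟨FEt.Fiber.point w, hwE⟩, ?_⟩
    rw [hdm]
    have e : w ≫ pullback.diagonal g = gpt z ≫ jR := by
      apply pullback.hom_ext
      · simp [w, jR]
      · simpa [w, jR] using hw
    exact (congrArg FEt.Fiber.point e).trans (congrArg jR.base (gpt_point z))
  refine ⟨N, hn, ?_⟩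
  let W : X'.Opens := q' f g ⁻¹ᵁ N
  have hWE : W ≤ E := fun x hx => by
    by_contra hxE
    exact hx.2 ⟨x, hxE, rfl⟩
  let k : (W : Scheme.{u}) ⟶ (N : Scheme.{u}) := q' f g ∣_ N
  have : IsProper k := IsZariskiLocalAtTarget.restrict (P := @IsProper) inferInstance N
  have hk : k ≫ N.ι = W.ι ≫ q' f g := morphismRestrict_ι _ _
  let p : (W : Scheme.{u}) ⟶ X := W.ι ≫ g
  have : Etale p := by
    have e : X'.homOfLE hWE ≫ gE = p := by simp [gE, p]
    rw [← e]; infer_instance
  have hw : p ≫ f = k ≫ (N.ι ≫ π f g) := by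
    rw [reassoc_of% hk, Scheme.Hom.toNormalization_fromNormalization]
    try rw [Category.assoc]
  refine Exists.imp (fun U ⟨e, he, φ, hφ⟩ => ⟨e, he, φ, hφ⟩) (Sheets.exists_iso_of_sheets f p k (N.ι ≫ π f g) hw
    (fun K _ _ a b hp hk' => ?_) (fun K _ _ x m hxm => ?_))
  · have hg' : (a ≫ W.ι) ≫ g = (b ≫ W.ι) ≫ g := by simpa [p] using hp
    have hq' : (a ≫ W.ι) ≫ q' f g = (b ≫ W.ι) ≫ q' f g := by
      simp only [Category.assoc, ← hk, reassoc_of% hk']
    have hr : (a ≫ W.ι) ≫ r₀ = (b ≫ W.ι) ≫ r₀ := by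
      apply pullback.hom_ext
      · simpa [r₀] using hg'
      · simpa [r₀] using hq'
    let z := pullback.lift (a ≫ W.ι) (b ≫ W.ι) hr
    have hzB : FEt.Fiber.point z ∉ B := fun hzB => by
      have hm : (q' f g).base (FEt.Fiber.point (a ≫ W.ι)) ∈ N := (a.base (IsLocalRing.closedPoint K)).2
      refine hm.1 ⟨FEt.Fiber.point z, hzB, ?_⟩
      show FEt.Fiber.point (z ≫ pullback.fst r₀ r₀ ≫ q' f g) = _
      rw [pullback.lift_fst_assoc]
      rfl
    have hd : FEt.Fiber.point (z ≫ jR) ∈ Set.range (pullback.diagonal g).base := by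
      obtain ⟨y, hy⟩ := not_not.mp hzB
      exact ⟨E.ι.base y, by rw [← Scheme.Hom.comp_apply, ← hdm]; exact hy⟩
    obtain ⟨t, ht⟩ := exists_factor (pullback.diagonal g) (z ≫ jR) hd
    have h1 := congrArg (· ≫ pullback.fst g g) ht
    have h2 := congrArg (· ≫ pullback.snd g g) ht
    simp [jR, z] at h1 h2
    exact (cancel_mono W.ι).1 (h1.symm.trans h2)
  · let ξ := x ≫ f
    let z₀ := m ≫ N.ι
    have hz₀ : z₀ ≫ π f g = ξ := by rw [Category.assoc]; exact hxm.symm
    let Z := pullback (q' f g) z₀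
    have : ConnectedSpace ↥Z :=
      GeometricallyConnected.geometrically_connectedSpace (f := q' f g) _ _ _ (IsPullback.of_hasPullback (q' f g) z₀)
    let X₁ := pullback (g ≫ f) ξ
    let i : Z ⟶ X₁ := pullback.lift (pullback.fst _ _) (pullback.snd _ _) (by
      rw [← hz₀, ← pullback.condition_assoc, Scheme.Hom.toNormalization_fromNormalization])
    let toP : X₁ ⟶ pullback (π f g) ξ := pullback.lift (pullback.fst _ _ ≫ q' f g) (pullback.snd _ _) (by
      rw [Category.assoc, Scheme.Hom.toNormalization_fromNormalization, pullback.condition])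
    let s₀ : Spec (CommRingCat.of K) ⟶ pullback (π f g) ξ :=
      pullback.lift z₀ (𝟙 _) (hz₀.trans (Category.id_comp _).symm)
    have hitoP : i ≫ toP = pullback.snd (q' f g) z₀ ≫ s₀ := by
      apply pullback.hom_ext
      · simp [i, toP, s₀, pullback.condition]
      · simp [i, toP, s₀]
    haveI : IsLocallyNoetherian X₁ :=
      LocallyOfFiniteType.isLocallyNoetherian (pullback.snd (g ≫ f) ξ)
    haveI := locallyConnectedSpace X₁
    obtain ⟨w⟩ := (inferInstance : Nonempty ↥Z)
    let O : Set ↥X₁ := connectedComponent (i.base w)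
    have hOsub : ∀ y ∈ O, y ∈ Set.range i.base := by
      intro y hy
      let O' : X₁.Opens := ⟨O, isOpen_connectedComponent⟩
      haveI : PreconnectedSpace ↥(O' : Scheme.{u}) :=
        Subtype.preconnectedSpace isPreconnected_connectedComponent
      have hsub := Trivial.subsingleton_range_integral (pullback.snd (π f g) ξ) (𝟙 _)
        (O'.ι ≫ toP) (O'.ι ≫ pullback.snd (g ≫ f) ξ) (by
          simp only [toP, Category.assoc, pullback.lift_snd, Category.comp_id])
      have e1 : toP.base y = toP.base (i.base w) := hsub ⟨⟨y, hy⟩, rfl⟩ ⟨⟨_, mem_connectedComponent⟩, rfl⟩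
      have e2 : toP.base (i.base w) = s₀.base ((pullback.snd (q' f g) z₀).base w) := by
        rw [← Scheme.Hom.comp_apply, hitoP]; rfl
      obtain ⟨z, hz, -⟩ := Scheme.Pullback.exists_preimage_pullback (f := toP) (g := s₀) y _ (e1.trans e2)
      have hzz := pullback.condition (f := toP) (g := s₀)
      have h1 := congrArg (· ≫ pullback.fst (π f g) ξ) hzz
      have h2 := congrArg (· ≫ pullback.snd (π f g) ξ) hzz
      simp only [toP, s₀, Category.assoc, pullback.lift_fst, pullback.lift_snd, Category.comp_id] at h1 h2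
      let l : pullback toP s₀ ⟶ Z := pullback.lift (pullback.fst toP s₀ ≫ pullback.fst (g ≫ f) ξ)
        (pullback.snd toP s₀) (by rw [Category.assoc]; exact h1)
      refine ⟨l.base z, ?_⟩
      have e : l ≫ i = pullback.fst toP s₀ := by
        apply pullback.hom_ext
        · simp [l, i]
        · simpa [l, i] using h2.symm
      rw [← Scheme.Hom.comp_apply, e, hz]
    have hOE : ∀ y ∈ O, (pullback.fst (g ≫ f) ξ).base y ∈ E := by
      intro y hy
      obtain ⟨z, rfl⟩ := hOsub y hy
      rw [← Scheme.Hom.comp_apply, pullback.lift_fst]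
      refine hWE ?_
      show (q' f g).base ((pullback.fst (q' f g) z₀).base z) ∈ N
      rw [← Scheme.Hom.comp_apply, pullback.condition, Scheme.Hom.comp_apply, Scheme.Hom.comp_apply]
      exact (m.base _).2
    let mξ : X₁ ⟶ pullback f ξ :=
      pullback.map (g ≫ f) ξ f ξ g (𝟙 _) (𝟙 _) (Category.comp_id _) (by simp)
    haveI : IsProper mξ := MorphismProperty.pullbackMap (P := @IsProper) ‹IsProper g› (MorphismProperty.id_mem _ _) rfl (by simp)
    let mE' : pullback (gE ≫ f) ξ ⟶ X₁ :=
      pullback.map (gE ≫ f) ξ (g ≫ f) ξ E.ι (𝟙 _) (𝟙 _) (by simp [gE]) (by simp)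
    haveI : IsOpenImmersion mE' := MorphismProperty.pullbackMap (P := @IsOpenImmersion)
      (inferInstanceAs (IsOpenImmersion E.ι)) (MorphismProperty.id_mem _ _) (by simp [gE]) (by simp)
    have hcompE : mE' ≫ mξ = pullback.map (gE ≫ f) ξ f ξ gE (𝟙 _) (𝟙 _) (by simp) (by simp) := by
      apply pullback.hom_ext <;> simp [mE', mξ, gE, pullback.map]
    haveI : Etale (mE' ≫ mξ) := hcompE ▸
      MorphismProperty.pullbackMap (P := @Etale) ‹Etale gE› (MorphismProperty.id_mem _ _) rfl (by simp)
    have himg : mξ.base '' O = (mE' ≫ mξ).base '' (mE'.base ⁻¹' O) := by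
      rw [Scheme.Hom.comp_base, TopCat.coe_comp, Set.image_comp, Set.image_preimage_eq_of_subset]
      intro y hy
      rw [Scheme.Pullback.range_map]
      refine ⟨?_, ?_⟩
      · show (pullback.fst (g ≫ f) ξ).base y ∈ Set.range E.ι.base
        rw [Scheme.Opens.range_ι]; exact hOE y hy
      · exact ⟨_, rfl⟩
    have hclop : IsClopen (mξ.base '' O) := ⟨mξ.isClosedMap _ isClosed_connectedComponent, himg ▸
      (mE' ≫ mξ).isOpenMap _ (isOpen_connectedComponent.preimage mE'.continuous)⟩
    haveI := hconn K ξ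
    let px : Spec (CommRingCat.of K) ⟶ pullback f ξ := pullback.lift x (𝟙 _) (Category.id_comp _).symm
    obtain ⟨y, hy, hyp⟩ := (hclop.eq_univ ⟨_, ⟨_, mem_connectedComponent, rfl⟩⟩).symm ▸
      Set.mem_univ (FEt.Fiber.point px)
    obtain ⟨z, rfl⟩ := hOsub y hy
    haveI : LocallyOfFiniteType (i ≫ mξ) := by
      haveI : LocallyOfFiniteType ((i ≫ mξ) ≫ pullback.snd f ξ) := by
        rw [show (i ≫ mξ) ≫ pullback.snd f ξ = pullback.snd (q' f g) z₀ by simp [i, mξ, pullback.map]]
        infer_instance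
      exact locallyOfFiniteType_of_comp _ (pullback.snd f ξ)
    haveI : QuasiCompact (i ≫ mξ) := by
      haveI : QuasiCompact ((i ≫ mξ) ≫ pullback.snd f ξ) := by
        rw [show (i ≫ mξ) ≫ pullback.snd f ξ = pullback.snd (q' f g) z₀ by simp [i, mξ, pullback.map]]
        infer_instance
      exact QuasiCompact.of_comp _ (pullback.snd f ξ)
    obtain ⟨ζ, hζ⟩ := exists_lift (i ≫ mξ) px z hyp
    let a' := ζ ≫ pullback.fst (q' f g) z₀
    have hζ₂ : ζ ≫ pullback.snd (q' f g) z₀ = 𝟙 _ := by
      simpa [i, mξ, px, pullback.map] using congrArg (· ≫ pullback.snd f ξ) hζ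
    have hq₀ : a' ≫ q' f g = z₀ := by
      rw [Category.assoc, pullback.condition, reassoc_of% hζ₂]
    have hr' : Set.range a'.base ⊆ Set.range W.ι.base := by
      rw [Scheme.Opens.range_ι]
      refine range_subset_of_point a' ?_
      show (q' f g).base (FEt.Fiber.point a') ∈ N
      exact (show FEt.Fiber.point (a' ≫ q' f g) ∈ N by rw [hq₀]; exact (m.base (IsLocalRing.closedPoint K)).2)
    refine ⟨IsOpenImmersion.lift W.ι a' hr', ?_, ?_⟩
    · show IsOpenImmersion.lift W.ι a' hr' ≫ W.ι ≫ g = x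
      rw [IsOpenImmersion.lift_fac_assoc]
      simpa [a', i, mξ, px, pullback.map] using congrArg (· ≫ pullback.fst f ξ) hζ
    · rw [← cancel_mono N.ι, Category.assoc, hk, IsOpenImmersion.lift_fac_assoc, hq₀]

end Groth.Agent.Lib.Kunneth.FibreComponent
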