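import Groth.Agent.S2903
import Groth.Agent.S0388
import Groth.Agent.Lib.Kunneth.Basic
import Groth.Agent.Lib.FEt.GaloisCat

/-!
# Covers which are trivial on the geometric fibres come from the base
-/

set_option autoImplicit false
set_option backward.isDefEq.respectTransparency false

noncomputable section

universe u

open CategoryTheory CategoryTheory.Limits AlgebraicGeometry

namespace Groth.Agent.Lib.Kunneth.Trivial

open Groth.Agent.Lib.FEt

theorem subsingleton_range_spec {K : Type u} [Field K] {A : Type u} [CommRing A] [Algebra K A]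
    [Algebra.IsIntegral K A] {T : Type*} [TopologicalSpace T] [PreconnectedSpace T]
    (h : T → PrimeSpectrum A) (hh : Continuous h) : (Set.range h).Subsingleton := by
  have key : ∀ (t₁ t₂ : T) (a : A), a ∈ (h t₁).asIdeal → a ∈ (h t₂).asIdeal := by
    intro t₁ t₂ a ha
    obtain ⟨p, hp, hpa⟩ : IsIntegral K a := Algebra.IsIntegral.isIntegral a
    obtain ⟨u, hu, hdvd⟩ := Polynomial.exists_eq_pow_rootMultiplicity_mul_and_not_dvd p hp.ne_zero 0
    simp only [map_zero, sub_zero, Polynomial.X_dvd_iff] at hu hdvd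
    have h0 : a ^ p.rootMultiplicity 0 * Polynomial.aeval a u = 0 := by
      rw [← hpa, ← Polynomial.aeval_def]
      conv_rhs => rw [hu]
      simp
    have hnot : ∀ q : PrimeSpectrum A, a ∈ q.asIdeal → Polynomial.aeval a u ∉ q.asIdeal := by
      intro q hq hu'
      have h1 : Polynomial.aeval a u - algebraMap K A (u.coeff 0) ∈ q.asIdeal := by
        have e := congrArg (Polynomial.aeval a) (Polynomial.X_mul_divX_add u)
        simp only [map_add, map_mul, Polynomial.aeval_X, Polynomial.aeval_C] at e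
        rw [← e, add_sub_cancel_right]
        exact q.asIdeal.mul_mem_right _ hq
      have h2 : algebraMap K A (u.coeff 0) ∈ q.asIdeal := by
        simpa using q.asIdeal.sub_mem hu' h1
      exact q.2.ne_top (Ideal.eq_top_of_isUnit_mem _ h2 ((IsUnit.mk0 _ hdvd).map _))
    have hor : ∀ q : PrimeSpectrum A, a ∈ q.asIdeal ∨ Polynomial.aeval a u ∈ q.asIdeal := fun q =>
      (q.2.mem_or_mem (h0 ▸ q.asIdeal.zero_mem)).imp (q.2.mem_of_pow_mem _) id
    have hcl : IsClopen (PrimeSpectrum.zeroLocus ({a} : Set A)) := by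
      refine ⟨PrimeSpectrum.isClosed_zeroLocus _, ?_⟩
      have he : PrimeSpectrum.zeroLocus ({a} : Set A) =
          (PrimeSpectrum.zeroLocus ({Polynomial.aeval a u} : Set A))ᶜ := by
        ext q
        simp only [PrimeSpectrum.mem_zeroLocus, Set.singleton_subset_iff, Set.mem_compl_iff, SetLike.mem_coe]
        exact ⟨fun hq => hnot q hq, fun hq => (hor q).resolve_right hq⟩
      rw [he]
      exact (PrimeSpectrum.isClosed_zeroLocus _).isOpen_compl
    have := (hcl.preimage hh).eq_univ ⟨t₁, by simpa using ha⟩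
    simpa using Set.eq_univ_iff_forall.mp this t₂
  rintro _ ⟨t₁, rfl⟩ _ ⟨t₂, rfl⟩
  exact PrimeSpectrum.ext (le_antisymm (fun a => key t₁ t₂ a) (fun a => key t₂ t₁ a))

theorem subsingleton_range_integral {T Y S : Scheme.{u}} [PreconnectedSpace T] (π : Y ⟶ S)
    [IsIntegralHom π] {K : Type u} [Field K] (ξ : Spec (CommRingCat.of K) ⟶ S) (h : T ⟶ Y)
    (t : T ⟶ Spec (CommRingCat.of K)) (w : h ≫ π = t ≫ ξ) : (Set.range h.base).Subsingleton := by
  let P := pullback π ξ
  let s : P ⟶ Spec (CommRingCat.of K) := pullback.snd π ξ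
  have : IsIntegralHom s := MorphismProperty.pullback_snd _ _ ‹_›
  have : IsAffine P := isAffine_of_isAffineHom s
  obtain ⟨ψ, hψ⟩ := Spec.map_surjective (P.isoSpec.inv ≫ s)
  have : IsIntegralHom (Spec.map ψ) := hψ ▸ inferInstance
  have hint : ψ.hom.IsIntegral := IsIntegralHom.SpecMap_iff.mp inferInstance
  let : Algebra K Γ(P, ⊤) := ψ.hom.toAlgebra
  have : Algebra.IsIntegral K Γ(P, ⊤) := ⟨hint⟩
  let h' : T ⟶ Spec Γ(P, ⊤) := pullback.lift h t w ≫ P.isoSpec.hom
  have hs := subsingleton_range_spec (K := K) (A := Γ(P, ⊤)) (fun x => h'.base x) h'.continuous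
  have hh : h' ≫ P.isoSpec.inv ≫ pullback.fst π ξ = h := by simp [h', P]
  rintro _ ⟨a, rfl⟩ _ ⟨b, rfl⟩
  rw [← hh, Scheme.Hom.comp_apply, Scheme.Hom.comp_apply (f := h') (x := b)]
  exact congrArg _ (hs ⟨a, rfl⟩ ⟨b, rfl⟩)

variable {X S : Scheme.{u}} (f : X ⟶ S) (X' : FEt.Cat X)

/-- The trivialising sections. -/
def HasSheets : Prop :=
  ∀ (K : Type u) [Field K] [IsAlgClosed K] (ξ : Spec (CommRingCat.of K) ⟶ S)
    (p : (pullback X'.hom (pullback.fst f ξ) : Scheme.{u})),
    ∃ σ : pullback f ξ ⟶ pullback X'.hom (pullback.fst f ξ),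
      σ ≫ pullback.snd _ _ = 𝟙 _ ∧ Set.range σ.base = connectedComponent p

theorem hasSheets
    (hconn : ∀ (K : Type u) [Field K] [IsAlgClosed K] (ξ : Spec (CommRingCat.of K) ⟶ S), ConnectedSpace ↑(pullback f ξ))
    (hsplit : ∀ (K : Type u) [Field K] [IsAlgClosed K] (ξ : Spec (CommRingCat.of K) ⟶ S),
      Pi1.IsSplit ((FEt.restrict (pullback.fst f ξ)).obj X')) : HasSheets f X' := by
  intro K _ _ ξ p
  obtain ⟨ι, _, e, he⟩ := hsplit K ξ
  have := hconn K ξ
  let P := pullback f ξ
  let e' : pullback X'.hom (pullback.fst f ξ) ≅ ∐ fun _ : ι => P := e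
  obtain ⟨i, x, hx⟩ := (sigmaOpenCover fun _ : ι => P).exists_eq (e'.hom.base p)
  let σ : P ⟶ pullback X'.hom (pullback.fst f ξ) := Sigma.ι (fun _ : ι => P) i ≫ e'.inv
  have hσ : σ ≫ pullback.snd _ _ = 𝟙 _ := (Category.assoc _ _ _).trans (he i)
  refine ⟨σ, hσ, ?_⟩
  have hp : σ.base x = p := by
    rw [Scheme.Hom.comp_apply, show (Sigma.ι (fun _ : ι => P) i).base x = e'.hom.base p from hx]
    simp
  have : IsOpenImmersion σ := inferInstance
  have : IsClosedImmersion σ := by
    have : IsClosedImmersion (σ ≫ pullback.snd X'.hom (pullback.fst f ξ)) := hσ ▸ inferInstance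
    have : IsFinite (pullback.snd X'.hom (pullback.fst f ξ)) :=
      MorphismProperty.pullback_snd (P := @IsFinite) _ _ X'.prop.1
    exact IsClosedImmersion.of_comp σ (pullback.snd X'.hom (pullback.fst f ξ))
  refine Set.Subset.antisymm ((isPreconnected_range σ.continuous).subset_connectedComponent ⟨x, hp⟩) ?_
  exact IsClopen.connectedComponent_subset
    ⟨σ.isClosedEmbedding.isClosed_range, σ.isOpenEmbedding.isOpen_range⟩ ⟨x, hp⟩

abbrev g : X'.left ⟶ S := X'.hom ≫ f

/-- The point of the geometric fibre given by a geometric point. -/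
def ptY {K : Type u} [Field K] (ξ : Spec (CommRingCat.of K) ⟶ S)
    (v : Spec (CommRingCat.of K) ⟶ X'.left) (hv : v ≫ g f X' = ξ) :
    Spec (CommRingCat.of K) ⟶ pullback X'.hom (pullback.fst f ξ) :=
  pullback.lift v (pullback.lift (v ≫ X'.hom) (𝟙 _) (by
    rw [Category.id_comp, Category.assoc]; exact hv)) (pullback.lift_fst _ _ _).symm

/-- Two geometric points lie in the same sheet. -/
def Same {K : Type u} [Field K] (v₀ v₁ : Spec (CommRingCat.of K) ⟶ X'.left)
    (h : v₀ ≫ g f X' = v₁ ≫ g f X') : Prop :=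
  connectedComponent (Fiber.point (ptY f X' _ v₀ h)) = connectedComponent (Fiber.point (ptY f X' _ v₁ rfl))

theorem Same.trans {K : Type u} [Field K] {v₀ v₁ v₂ : Spec (CommRingCat.of K) ⟶ X'.left}
    {h₀₁ : v₀ ≫ g f X' = v₁ ≫ g f X'} {h₁₂ : v₁ ≫ g f X' = v₂ ≫ g f X'}
    (a : Same f X' v₀ v₁ h₀₁) (b : Same f X' v₁ v₂ h₁₂) : Same f X' v₀ v₂ (h₀₁.trans h₁₂) := by
  have key : ∀ (ξ ξ' : Spec (CommRingCat.of K) ⟶ S) (hξ : ξ = ξ') (h₀ : v₀ ≫ g f X' = ξ)
      (h₁ : v₁ ≫ g f X' = ξ),
      connectedComponent (Fiber.point (ptY f X' ξ v₀ h₀)) = connectedComponent (Fiber.point (ptY f X' ξ v₁ h₁)) →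
      connectedComponent (Fiber.point (ptY f X' ξ' v₀ (h₀.trans hξ))) =
        connectedComponent (Fiber.point (ptY f X' ξ' v₁ (h₁.trans hξ))) := by
    rintro ξ ξ' rfl h₀ h₁ h; exact h
  exact (key _ _ h₁₂ h₀₁ rfl a).trans b

theorem Same.symm {K : Type u} [Field K] {v₀ v₁ : Spec (CommRingCat.of K) ⟶ X'.left}
    {h : v₀ ≫ g f X' = v₁ ≫ g f X'} (a : Same f X' v₀ v₁ h) : Same f X' v₁ v₀ h.symm := by
  have key : ∀ (ξ ξ' : Spec (CommRingCat.of K) ⟶ S) (hξ : ξ = ξ') (h₀ : v₀ ≫ g f X' = ξ)
      (h₁ : v₁ ≫ g f X' = ξ),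
      connectedComponent (Fiber.point (ptY f X' ξ v₀ h₀)) = connectedComponent (Fiber.point (ptY f X' ξ v₁ h₁)) →
      connectedComponent (Fiber.point (ptY f X' ξ' v₁ (h₁.trans hξ))) =
        connectedComponent (Fiber.point (ptY f X' ξ' v₀ (h₀.trans hξ))) := by
    rintro ξ ξ' rfl h₀ h₁ h; exact h.symm
  exact key _ _ h.symm h rfl a

theorem Same.refl {K : Type u} [Field K] (v : Spec (CommRingCat.of K) ⟶ X'.left) : Same f X' v v rfl := rfl

abbrev Q : Scheme.{u} := pullback (g f X') (g f X')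

abbrev qQ : Q f X' ⟶ S := pullback.fst (g f X') (g f X') ≫ g f X'

abbrev toQ : pullback X'.hom X'.hom ⟶ Q f X' := pullback.mapDesc X'.hom X'.hom f

/-- The diagonal points. -/
def C₀ : Set (Q f X') := Set.range (pullback.diagonal (g f X')).base

/-- The other points over the diagonal of `X`. -/
def C₁ : Set (Q f X') := (toQ f X').base '' (Set.range (pullback.diagonal X'.hom).base)ᶜ

variable [IsProper f]

instance isProper_g : IsProper (g f X') := by
  have : IsFinite X'.hom := X'.prop.1
  infer_instance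

instance isProper_qQ : IsProper (qQ f X') := inferInstance

theorem isClosed_C₀ : IsClosed (C₀ f X') := (pullback.diagonal (g f X')).isClosedEmbedding.isClosed_range

theorem isClosedImmersion_toQ : IsClosedImmersion (toQ f X') :=
  MorphismProperty.of_isPullback (pullback_map_diagonal_isPullback X'.hom X'.hom f)
    (inferInstanceAs (IsClosedImmersion (pullback.diagonal f)))

theorem isClosed_C₁ : IsClosed (C₁ f X') := by
  have := isClosedImmersion_toQ f X'
  have : Etale X'.hom := X'.prop.2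
  exact (toQ f X').isClosedEmbedding.isClosedMap _
    (pullback.diagonal X'.hom).isOpenEmbedding.isOpen_range.isClosed_compl

abbrev q' : Q f X' ⟶ (qQ f X').normalization := (qQ f X').toNormalization

/-- The sheet relation on `Q`. -/
def C : Set (Q f X') := (q' f X').base ⁻¹' ((q' f X').base '' C₀ f X')

theorem isClosedMap_q' : IsClosedMap (q' f X').base := by
  have : IsProper ((qQ f X').toNormalization ≫ (qQ f X').fromNormalization) := by
    rw [Scheme.Hom.toNormalization_fromNormalization]; infer_instance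
  have : IsProper (q' f X') := IsProper.of_comp _ (qQ f X').fromNormalization
  exact (q' f X').isClosedMap

variable (hs : HasSheets f X')
  (hconn : ∀ (K : Type u) [Field K] [IsAlgClosed K] (ξ : Spec (CommRingCat.of K) ⟶ S), ConnectedSpace ↑(pullback f ξ))

include hs in
theorem disjoint_images {c c' : Q f X'} (hc : c ∈ C₀ f X') (hc' : c' ∈ C₁ f X') :
    (q' f X').base c ≠ (q' f X').base c' := by
  intro he
  let N := (qQ f X').normalization
  let n : N := (q' f X').base c
  let K := AlgebraicClosure (N.residueField n)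
  let z : Spec (CommRingCat.of K) ⟶ N :=
    Spec.map (CommRingCat.ofHom (algebraMap (N.residueField n) K)) ≫ N.fromSpecResidueField n
  have hz : ∀ t, z.base t = n := fun t => Scheme.fromSpecResidueField_apply n _
  let Z := pullback (q' f X') z
  have : GeometricallyConnected (q' f X') := (S0388.result (qQ f X')).1
  have : ConnectedSpace Z :=
    GeometricallyConnected.geometrically_connectedSpace (f := q' f X') _ _ _ (IsPullback.of_hasPullback (q' f X') z)
  let ξ : Spec (CommRingCat.of K) ⟶ S := z ≫ (qQ f X').fromNormalization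
  let r : Z ⟶ Q f X' := pullback.fst _ _
  have hr : r ≫ pullback.fst (g f X') (g f X') ≫ g f X' = pullback.snd (q' f X') z ≫ ξ := by
    have h := pullback.condition (f := q' f X') (g := z) =≫ (qQ f X').fromNormalization
    rw [Category.assoc, Category.assoc, Scheme.Hom.toNormalization_fromNormalization] at h
    exact h
  have hr' : r ≫ pullback.snd (g f X') (g f X') ≫ g f X' = pullback.snd (q' f X') z ≫ ξ := by
    rw [← pullback.condition]; exact hr
  let a : Z ⟶ pullback X'.hom (pullback.fst f ξ) :=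
    pullback.lift (r ≫ pullback.fst _ _) (pullback.lift ((r ≫ pullback.fst _ _) ≫ X'.hom)
      (pullback.snd (q' f X') z) (by simpa using hr)) (pullback.lift_fst _ _ _).symm
  let b : Z ⟶ pullback X'.hom (pullback.fst f ξ) :=
    pullback.lift (r ≫ pullback.snd _ _) (pullback.lift ((r ≫ pullback.snd _ _) ≫ X'.hom)
      (pullback.snd (q' f X') z) (by simpa using hr')) (pullback.lift_fst _ _ _).symm
  obtain ⟨w, hw, -⟩ := Scheme.Pullback.exists_preimage_pullback (f := q' f X') (g := z) c
    (IsLocalRing.closedPoint K) (hz _).symm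
  obtain ⟨w', hw', -⟩ := Scheme.Pullback.exists_preimage_pullback (f := q' f X') (g := z) c'
    (IsLocalRing.closedPoint K) (he.symm.trans (hz _).symm)
  have hab : connectedComponent (a.base w) = connectedComponent (b.base w) := by
    obtain ⟨x', hx'⟩ := hc
    obtain ⟨y, hy, -⟩ := Scheme.Pullback.exists_preimage_pullback (f := r)
      (g := pullback.diagonal (g f X')) w x' (hw.trans hx'.symm)
    let Zc := pullback r (pullback.diagonal (g f X'))
    have : pullback.fst r (pullback.diagonal (g f X')) ≫ a = pullback.fst _ _ ≫ b := by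
      apply pullback.hom_ext
      · simp [a, b, pullback.condition_assoc]
      · apply pullback.hom_ext <;> simp [a, b, pullback.condition_assoc]
    rw [← hy, ← Scheme.Hom.comp_apply, ← Scheme.Hom.comp_apply, this]
  have ha : connectedComponent (a.base w') = connectedComponent (a.base w) :=
    connectedComponent_eq ((isPreconnected_range a.continuous).subset_connectedComponent ⟨w', rfl⟩ ⟨w, rfl⟩)
  have hb : connectedComponent (b.base w') = connectedComponent (b.base w) :=
    connectedComponent_eq ((isPreconnected_range b.continuous).subset_connectedComponent ⟨w', rfl⟩ ⟨w, rfl⟩)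
  obtain ⟨σ, hσ, hσr⟩ := hs K ξ (a.base w')
  let τ : Spec (Z.residueField w') ⟶ Z := Z.fromSpecResidueField w'
  have hτ : ∀ t, τ.base t = w' := fun t => Scheme.fromSpecResidueField_apply w' t
  have : IsClosedImmersion σ := by
    have : IsClosedImmersion (σ ≫ pullback.snd X'.hom (pullback.fst f ξ)) := hσ ▸ inferInstance
    have : IsFinite (pullback.snd X'.hom (pullback.fst f ξ)) :=
      MorphismProperty.pullback_snd (P := @IsFinite) _ _ X'.prop.1
    exact IsClosedImmersion.of_comp σ (pullback.snd X'.hom (pullback.fst f ξ))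
  obtain ⟨x', hx', hc'e⟩ := hc'
  obtain ⟨y, hy, hy'⟩ := Scheme.Pullback.exists_preimage_pullback (f := r) (g := toQ f X') w' x'
    (hw'.trans hc'e.symm)
  let τ' : Spec ((pullback r (toQ f X')).residueField y) ⟶ pullback r (toQ f X') :=
    (pullback r (toQ f X')).fromSpecResidueField y
  let u : Spec ((pullback r (toQ f X')).residueField y) ⟶ Z := τ' ≫ pullback.fst _ _
  have hu : ∀ t, u.base t = w' := fun t => by
    rw [Scheme.Hom.comp_apply, Scheme.fromSpecResidueField_apply]; exact hy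
  have hfac : ∀ (m : Z ⟶ pullback X'.hom (pullback.fst f ξ)),
      m.base w' ∈ Set.range σ.base → (u ≫ m) ≫ pullback.snd _ _ ≫ σ = u ≫ m := by
    intro m hm
    obtain ⟨y₂, hy₂, -⟩ := Scheme.Pullback.exists_preimage_pullback (f := u ≫ m) (g := σ)
      (IsLocalRing.closedPoint _) hm.choose (by rw [hm.choose_spec, Scheme.Hom.comp_apply, hu])
    have hsu : Surjective (pullback.fst (u ≫ m) σ) := ⟨fun t =>
      ⟨y₂, hy₂.trans (Subsingleton.elim (α := PrimeSpectrum ((pullback r (toQ f X')).residueField y)) _ _)⟩⟩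
    have : IsIso (pullback.fst (u ≫ m) σ) := isIso_of_isClosedImmersion_of_surjective _
    rw [← cancel_epi (pullback.fst (u ≫ m) σ), ← Category.assoc, pullback.condition]
    simp [reassoc_of% hσ]
  have e1 := hfac a (hσr ▸ mem_connectedComponent)
  have e2 := hfac b (by rw [hσr, ha, hab, ← hb]; exact mem_connectedComponent)
  have hsnd : (u ≫ a) ≫ pullback.snd _ _ = (u ≫ b) ≫ pullback.snd _ _ := by
    apply pullback.hom_ext
    · simp only [a, b, u, Category.assoc, pullback.lift_snd, pullback.lift_fst, r]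
      rw [pullback.condition_assoc, pullback.condition_assoc]
      simp [pullback.condition]
    · simp [a, b, Category.assoc]
  have hab' : u ≫ a = u ≫ b := by
    rw [← e1, ← e2, ← Category.assoc, hsnd, Category.assoc]
  have h12 : (τ' ≫ pullback.snd r (toQ f X')) ≫ pullback.fst X'.hom X'.hom =
      (τ' ≫ pullback.snd r (toQ f X')) ≫ pullback.snd X'.hom X'.hom := by
    have h := hab' =≫ pullback.fst _ _
    simp only [a, b, u, Category.assoc, pullback.lift_fst] at h
    rw [pullback.condition_assoc, pullback.condition_assoc] at h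
    simpa [toQ, pullback.mapDesc] using h
  have hd : (τ' ≫ pullback.snd r (toQ f X') ≫ pullback.fst X'.hom X'.hom) ≫ pullback.diagonal X'.hom =
      τ' ≫ pullback.snd r (toQ f X') := by
    apply pullback.hom_ext
    · simp
    · simpa using h12
  refine hx' ⟨(τ' ≫ pullback.snd r (toQ f X') ≫ pullback.fst X'.hom X'.hom).base
    (IsLocalRing.closedPoint _), ?_⟩
  rw [← Scheme.Hom.comp_apply, hd, Scheme.Hom.comp_apply, Scheme.fromSpecResidueField_apply, hy']

variable {f X'}

abbrev M (f : X ⟶ S) (X' : FEt.Cat X) : Scheme.{u} := pullback (g f X') f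

/-- The first point and the image of the second. -/
abbrev μ (f : X ⟶ S) (X' : FEt.Cat X) : Q f X' ⟶ M f X' :=
  pullback.map (g f X') (g f X') (g f X') f (𝟙 _) X'.hom (𝟙 _) (by simp) (by simp)

include hs hconn in
theorem exists_over_diag {K : Type u} [Field K] [IsAlgClosed K] (v₀ v₁ : Spec (CommRingCat.of K) ⟶ X'.left)
    (h : v₀ ≫ g f X' = v₁ ≫ g f X') :
    ∃ (v : Spec (CommRingCat.of K) ⟶ X'.left) (hv : v ≫ X'.hom = v₁ ≫ X'.hom),
      (Same f X' v₀ v₁ h ↔ v = v₁) ∧ (q' f X').base (Fiber.point (pullback.lift v₀ v₁ h)) =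
        (q' f X').base (Fiber.point (pullback.lift v v₁ hv ≫ toQ f X')) := by
  let ξ := v₁ ≫ g f X'
  let Y := pullback X'.hom (pullback.fst f ξ)
  let y₀ : Spec (CommRingCat.of K) ⟶ Y := ptY f X' ξ v₀ h
  let y₁ : Spec (CommRingCat.of K) ⟶ Y := ptY f X' ξ v₁ rfl
  have := hconn K ξ
  obtain ⟨σ, hσ, hσr⟩ := hs K ξ (Fiber.point y₀)
  have : IsClosedImmersion σ := by
    have : IsClosedImmersion (σ ≫ pullback.snd X'.hom (pullback.fst f ξ)) := hσ ▸ inferInstance
    have : IsFinite (pullback.snd X'.hom (pullback.fst f ξ)) :=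
      MorphismProperty.pullback_snd (P := @IsFinite) _ _ X'.prop.1
    exact IsClosedImmersion.of_comp σ (pullback.snd X'.hom (pullback.fst f ξ))
  have hfac : ∀ (v : Spec (CommRingCat.of K) ⟶ Y), Fiber.point v ∈ Set.range σ.base →
      (v ≫ pullback.snd _ _) ≫ σ = v := by
    intro v hv
    obtain ⟨t, ht, -⟩ := Conservative.exists_lift_point v σ hv.choose hv.choose_spec
    rw [← ht, Category.assoc, Category.assoc, reassoc_of% hσ]
  -- the sheet of `v₀`
  let T := pullback f ξ
  let a : T ⟶ X'.left := σ ≫ pullback.fst _ _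
  have ha : a ≫ g f X' = pullback.snd f ξ ≫ ξ := by
    simp only [a, g, Category.assoc, pullback.condition_assoc]
    rw [reassoc_of% hσ, pullback.condition]
  let l : T ⟶ Q f X' := pullback.lift a (pullback.snd f ξ ≫ v₁) (by rw [ha, Category.assoc])
  let p₀ : Spec (CommRingCat.of K) ⟶ T := y₀ ≫ pullback.snd _ _
  let p₁ : Spec (CommRingCat.of K) ⟶ T := y₁ ≫ pullback.snd _ _
  have hp₀ : p₀ ≫ l = pullback.lift v₀ v₁ h := by
    apply pullback.hom_ext
    · have e : p₀ ≫ σ = y₀ := hfac y₀ (hσr ▸ mem_connectedComponent)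
      simp [l, a, reassoc_of% e, y₀, ptY]
    · simp [l, p₀, y₀, ptY]; exact Category.id_comp _
  let v : Spec (CommRingCat.of K) ⟶ X'.left := p₁ ≫ a
  have hv : v ≫ X'.hom = v₁ ≫ X'.hom := by
    simp only [v, a, Category.assoc, pullback.condition]
    rw [reassoc_of% hσ]
    simp [p₁, y₁, ptY]
  have hp₁ : p₁ ≫ l = pullback.lift v v₁ hv ≫ toQ f X' := by
    apply pullback.hom_ext
    · simp [l, v, p₁, y₁, ptY, toQ, pullback.mapDesc]
    · simp [l, v, p₁, y₁, ptY, toQ, pullback.mapDesc]; exact Category.id_comp _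
  have hl : (l ≫ q' f X') ≫ (qQ f X').fromNormalization = pullback.snd f ξ ≫ ξ := by
    rw [Category.assoc, Scheme.Hom.toNormalization_fromNormalization, pullback.lift_fst_assoc]
    exact ha
  have hsub := subsingleton_range_integral (qQ f X').fromNormalization ξ (l ≫ q' f X')
    (pullback.snd f ξ) hl
  have hn : (q' f X').base (Fiber.point (pullback.lift v₀ v₁ h)) =
      (q' f X').base (Fiber.point (pullback.lift v v₁ hv ≫ toQ f X')) := by
    rw [← hp₀, ← hp₁]
    exact hsub ⟨p₀.base (IsLocalRing.closedPoint K), rfl⟩ ⟨p₁.base (IsLocalRing.closedPoint K), rfl⟩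
  have hsame : Same f X' v₀ v₁ h ↔ v = v₁ := by
    show connectedComponent (Fiber.point y₀) = connectedComponent (Fiber.point y₁) ↔ _
    constructor
    · intro hc
      have e : p₁ ≫ σ = y₁ := hfac y₁ (by rw [hσr, hc]; exact mem_connectedComponent)
      show p₁ ≫ σ ≫ pullback.fst _ _ = v₁
      rw [reassoc_of% e]
      exact pullback.lift_fst _ _ _
    · intro hv'
      have e : p₁ ≫ σ = y₁ := by
        apply pullback.hom_ext
        · rw [Category.assoc]
          exact hv'.trans (pullback.lift_fst _ _ _).symm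
        · rw [Category.assoc, hσ, Category.comp_id]
      refine connectedComponent_eq ?_
      rw [← hσr, ← e]
      exact ⟨Fiber.point p₁, rfl⟩
  exact ⟨v, hv, hsame, hn⟩

include hs hconn in
theorem mem_C_iff {K : Type u} [Field K] [IsAlgClosed K] (v₀ v₁ : Spec (CommRingCat.of K) ⟶ X'.left)
    (h : v₀ ≫ g f X' = v₁ ≫ g f X') :
    Fiber.point (pullback.lift v₀ v₁ h) ∈ C f X' ↔ Same f X' v₀ v₁ h := by
  obtain ⟨v, hv, hsame, hn⟩ := exists_over_diag hs hconn v₀ v₁ h
  rw [hsame]
  constructor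
  · intro hC
    by_contra hne
    obtain ⟨c, hc, hce⟩ := hC
    refine disjoint_images f X' hs hc ⟨Fiber.point (pullback.lift v v₁ hv), fun hr => hne ?_, rfl⟩ (hce.trans hn)
    obtain ⟨x, hx⟩ := hr
    have : Etale X'.hom := X'.prop.2
    have : IsFinite X'.hom := X'.prop.1
    obtain ⟨t, ht, -⟩ := Conservative.exists_lift_point (pullback.lift v v₁ hv) (pullback.diagonal X'.hom) x hx
    have h1 := congrArg (· ≫ pullback.fst X'.hom X'.hom) ht
    have h2 := congrArg (· ≫ pullback.snd X'.hom X'.hom) ht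
    simp only [Category.assoc, pullback.diagonal_fst, pullback.diagonal_snd, Category.comp_id,
      pullback.lift_fst, pullback.lift_snd] at h1 h2
    exact h1.symm.trans h2
  · intro hv'
    refine ⟨_, ⟨Fiber.point v₁, rfl⟩, ?_⟩
    rw [hn]
    congr 1
    have : pullback.lift v v₁ hv ≫ toQ f X' = v₁ ≫ pullback.diagonal (g f X') := by
      apply pullback.hom_ext <;> simp [hv', toQ, pullback.mapDesc]
    rw [this]
    rfl

include hs hconn in
theorem isClopen_C : IsClopen (C f X') := by
  refine ⟨(isClosedMap_q' f X' _ (isClosed_C₀ f X')).preimage (q' f X').continuous, ?_⟩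
  have he : C f X' = ((q' f X').base ⁻¹' ((q' f X').base '' C₁ f X'))ᶜ := by
    ext c
    refine ⟨?_, fun hc => ?_⟩
    · rintro ⟨c₀, hc₀, e₀⟩ ⟨c₁, hc₁, e₁⟩
      exact disjoint_images f X' hs hc₀ hc₁ (e₀.trans e₁.symm)
    · let z : Spec (CommRingCat.of (AlgebraicClosure ((Q f X').residueField c))) ⟶ Q f X' :=
        Spec.map (CommRingCat.ofHom (algebraMap ((Q f X').residueField c)
          (AlgebraicClosure ((Q f X').residueField c)))) ≫ (Q f X').fromSpecResidueField c
      have hz : Fiber.point z = c := Scheme.fromSpecResidueField_apply c _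
      obtain ⟨v, hv, -, hn⟩ := exists_over_diag hs hconn (z ≫ pullback.fst _ _) (z ≫ pullback.snd _ _)
        (by simp only [Category.assoc, pullback.condition])
      have hl : pullback.lift (z ≫ pullback.fst _ _) (z ≫ pullback.snd _ _)
          (by simp only [Category.assoc, pullback.condition]) = z := by
        apply pullback.hom_ext <;> simp
      rw [hl, hz] at hn
      by_cases hr : Fiber.point (pullback.lift v _ hv) ∈ Set.range (pullback.diagonal X'.hom).base
      · obtain ⟨x, hx⟩ := hr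
        refine ⟨(pullback.diagonal (g f X')).base x, ⟨x, rfl⟩, ?_⟩
        rw [hn]
        congr 1
        have e : pullback.diagonal X'.hom ≫ toQ f X' = pullback.diagonal (g f X') := by
          apply pullback.hom_ext <;> simp [toQ, pullback.mapDesc]
        rw [← e, Scheme.Hom.comp_apply]
        exact congrArg (toQ f X').base hx
      · exact absurd ⟨_, ⟨_, hr, rfl⟩, hn.symm⟩ hc
  rw [he]
  exact ((isClosedMap_q' f X' _ (isClosed_C₁ f X')).preimage (q' f X').continuous).isOpen_compl

include hs hconn in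
omit [IsProper f] in
theorem eq_of_same {K : Type u} [Field K] [IsAlgClosed K] (a b : Spec (CommRingCat.of K) ⟶ X'.left)
    (h : a ≫ g f X' = b ≫ g f X') (hx : a ≫ X'.hom = b ≫ X'.hom) (hsame : Same f X' a b h) : a = b := by
  let ξ := b ≫ g f X'
  let ya := ptY f X' ξ a h
  let yb := ptY f X' ξ b rfl
  have := hconn K ξ
  obtain ⟨σ, hσ, hσr⟩ := hs K ξ (Fiber.point ya)
  have : IsClosedImmersion σ := by
    have : IsClosedImmersion (σ ≫ pullback.snd X'.hom (pullback.fst f ξ)) := hσ ▸ inferInstance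
    have : IsFinite (pullback.snd X'.hom (pullback.fst f ξ)) :=
      MorphismProperty.pullback_snd (P := @IsFinite) _ _ X'.prop.1
    exact IsClosedImmersion.of_comp σ (pullback.snd X'.hom (pullback.fst f ξ))
  have hfac : ∀ (v : Spec (CommRingCat.of K) ⟶ pullback X'.hom (pullback.fst f ξ)),
      Fiber.point v ∈ Set.range σ.base → (v ≫ pullback.snd _ _) ≫ σ = v := by
    intro v hv
    obtain ⟨t, ht, -⟩ := Conservative.exists_lift_point v σ hv.choose hv.choose_spec
    rw [← ht, Category.assoc, Category.assoc, reassoc_of% hσ]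
  have ea : (ya ≫ pullback.snd _ _) ≫ σ = ya := hfac ya (hσr ▸ mem_connectedComponent)
  have eb : (yb ≫ pullback.snd _ _) ≫ σ = yb :=
    hfac yb (by rw [hσr, show connectedComponent (Fiber.point ya) = connectedComponent (Fiber.point yb) from hsame]
                exact mem_connectedComponent)
  have : ya ≫ pullback.snd _ _ = yb ≫ pullback.snd _ _ := by
    simp only [ya, yb, ptY, pullback.lift_snd]
    apply pullback.hom_ext <;> simp [hx]
  have e : ya = yb := by rw [← ea, ← eb, this]
  exact (pullback.lift_fst _ _ _).symm.trans ((congrArg (· ≫ pullback.fst _ _) e).trans (pullback.lift_fst _ _ _))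

include hs hconn in
omit [IsProper f] in
theorem exists_same {K : Type u} [Field K] [IsAlgClosed K] (a : Spec (CommRingCat.of K) ⟶ X'.left)
    (x : Spec (CommRingCat.of K) ⟶ X) (h : a ≫ g f X' = x ≫ f) :
    ∃ (b : Spec (CommRingCat.of K) ⟶ X'.left) (hb : b ≫ X'.hom = x),
      Same f X' a b (h.trans (by rw [← hb, Category.assoc])) := by
  let ξ := x ≫ f
  let ya := ptY f X' ξ a h
  have := hconn K ξ
  obtain ⟨σ, hσ, hσr⟩ := hs K ξ (Fiber.point ya)
  let yb : Spec (CommRingCat.of K) ⟶ pullback X'.hom (pullback.fst f ξ) :=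
    pullback.lift x (𝟙 _) (Category.id_comp _).symm ≫ σ
  let b := yb ≫ pullback.fst _ _
  have hb : b ≫ X'.hom = x := by
    simp only [b, yb, Category.assoc, pullback.condition]
    rw [reassoc_of% hσ, pullback.lift_fst]
  have hbξ : b ≫ g f X' = ξ := (reassoc_of% hb) f
  refine ⟨b, hb, ?_⟩
  have key : ∀ (ξ' : Spec (CommRingCat.of K) ⟶ S) (hξ : ξ' = ξ) (ha : a ≫ g f X' = ξ')
      (hb' : b ≫ g f X' = ξ'),
      connectedComponent (Fiber.point (ptY f X' ξ' a ha)) = connectedComponent (Fiber.point (ptY f X' ξ' b hb')) := by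
    rintro ξ' rfl ha hb'
    refine connectedComponent_eq ?_
    have hyb : ptY f X' ξ b hb' = yb := by
      apply pullback.hom_ext
      · exact pullback.lift_fst _ _ _
      · simp only [ptY, yb, Category.assoc, pullback.lift_snd]
        refine Eq.trans ?_ (congrArg (pullback.lift x (𝟙 _) (Category.id_comp ξ).symm ≫ ·) hσ).symm
        refine Eq.trans ?_ (Category.comp_id _).symm
        apply pullback.hom_ext <;> simp [hb]
    rw [hyb, ← hσr]
    exact ⟨Fiber.point (pullback.lift x (𝟙 _) (Category.id_comp _).symm), rfl⟩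
  exact key _ hbξ _ rfl

variable [Surjective f]

include hs hconn in
theorem exists_datum :
    ∃ D : Desc.SchDD f, D.obj = Over.mk X'.hom := by
  let w : X'.left ⟶ X := X'.hom
  haveI : IsFinite w := X'.prop.1
  haveI : Etale w := X'.prop.2
  let O : (Q f X').Opens := ⟨C f X', (isClopen_C hs hconn).2⟩
  haveI : IsClosedImmersion O.ι := IsClosedImmersion.of_isPreimmersion _ (by
    rw [Scheme.Opens.range_ι]; exact (isClopen_C hs hconn).1)
  have hμ : FEt.prop (μ f X') :=
    MorphismProperty.pullbackMap (P := FEt.prop) (MorphismProperty.id_mem FEt.prop X'.left) X'.prop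
      (by simp) rfl
  let Cc : FEt.Cat (M f X') := MorphismProperty.Over.mk ⊤ (O.ι ≫ μ f X')
    (MorphismProperty.comp_mem FEt.prop _ _ ⟨inferInstance, inferInstance⟩ hμ)
  let E : FEt.Cat (M f X') :=
    MorphismProperty.Over.mk ⊤ (𝟙 _) ⟨inferInstance, inferInstance⟩
  let toE : Cc ⟶ E := MorphismProperty.Over.homMk (O.ι ≫ μ f X') (Category.comp_id _) trivial
  let ξs : ∀ m : M f X', Spec (CommRingCat.of (AlgebraicClosure ((M f X').residueField m))) ⟶ M f X' :=
    fun m => Spec.map (CommRingCat.ofHom (algebraMap ((M f X').residueField m)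
      (AlgebraicClosure ((M f X').residueField m)))) ≫ (M f X').fromSpecResidueField m
  have hbij : ∀ m, Function.Bijective ((FEt.fiber (ξs m)).map toE) := by
    intro m
    let z := ξs m
    have key : ∀ (v₁ : _ ⟶ X'.left) (hw : v₁ ≫ X'.hom = z ≫ pullback.snd (g f X') f),
        (z ≫ pullback.fst (g f X') f) ≫ g f X' = v₁ ≫ g f X' := fun v₁ hw => by
      rw [Category.assoc, pullback.condition]
      exact ((reassoc_of% hw) f).symm
    refine ⟨fun s t _ => ?_, fun r => ?_⟩
    · have get : ∀ s : FEt.fiberObj z Cc,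
          ∃ (v₁ : _ ⟶ X'.left) (hw : v₁ ≫ X'.hom = z ≫ pullback.snd (g f X') f),
            s.1 ≫ O.ι = pullback.lift (z ≫ pullback.fst (g f X') f) v₁ (key v₁ hw) ∧
              Same f X' _ v₁ (key v₁ hw) := by
        intro s
        have hs2 : s.1 ≫ O.ι ≫ μ f X' = z := s.2
        let v₁ := (s.1 ≫ O.ι) ≫ pullback.snd _ _
        have hw : v₁ ≫ X'.hom = z ≫ pullback.snd (g f X') f := by
          simpa [v₁, pullback.map] using congrArg (· ≫ pullback.snd (g f X') f) hs2
        have e : s.1 ≫ O.ι = pullback.lift (z ≫ pullback.fst (g f X') f) v₁ (key v₁ hw) := by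
          apply pullback.hom_ext
          · rw [pullback.lift_fst]
            simpa [pullback.map] using congrArg (· ≫ pullback.fst (g f X') f) hs2
          · simp [v₁]
        refine ⟨v₁, hw, e, (mem_C_iff hs hconn _ v₁ (key v₁ hw)).mp ?_⟩
        rw [← e]
        exact (s.1.base (IsLocalRing.closedPoint _)).2
      obtain ⟨a, ha, ea, sa⟩ := get s
      obtain ⟨b, hb, eb, sb⟩ := get t
      have hab : a = b := by
        have h1 : a ≫ g f X' = b ≫ g f X' := (key a ha).symm.trans (key b hb)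
        have hsame : Same f X' a b h1 := (Same.symm f X' sa).trans f X' sb
        exact eq_of_same hs hconn _ _ h1 (ha.trans hb.symm) hsame
      subst hab
      exact Subtype.ext ((cancel_mono O.ι).1 (ea.trans eb.symm))
    · have hr : r.1 = z := by
        have h2 : r.1 ≫ 𝟙 _ = z := r.2
        rwa [Category.comp_id] at h2
      obtain ⟨b, hb, hsame⟩ := exists_same hs hconn (z ≫ pullback.fst (g f X') f)
        (z ≫ pullback.snd (g f X') f) (by simp only [Category.assoc, pullback.condition])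
      let l := pullback.lift (z ≫ pullback.fst (g f X') f) b (key b hb)
      have hl : Fiber.point l ∈ C f X' := (mem_C_iff hs hconn _ b (key b hb)).mpr hsame
      have hrange : Set.range l.base ⊆ Set.range O.ι.base := by
        rw [Scheme.Opens.range_ι]
        rintro _ ⟨t, rfl⟩
        rw [Subsingleton.elim (α := PrimeSpectrum (AlgebraicClosure ((M f X').residueField m))) t
          (IsLocalRing.closedPoint _)]
        exact hl
      have hlz : l ≫ μ f X' = z := by
        apply pullback.hom_ext <;> simp [l, pullback.map, hb]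
      refine ⟨⟨IsOpenImmersion.lift O.ι l hrange, ?_⟩, Subtype.ext ?_⟩
      · show IsOpenImmersion.lift O.ι l hrange ≫ O.ι ≫ μ f X' = z
        rw [IsOpenImmersion.lift_fac_assoc, hlz]
      · show IsOpenImmersion.lift O.ι l hrange ≫ O.ι ≫ μ f X' = r.1
        rw [IsOpenImmersion.lift_fac_assoc, hlz, hr]
  haveI : IsIso toE := Conservative.isIso_of_bijective ξs (GaloisCat.meetsClopens_points (M f X')) toE hbij
  haveI hiso : IsIso (O.ι ≫ μ f X') :=
    inferInstanceAs (IsIso ((MorphismProperty.Over.forget _ _ _ ⋙ Over.forget _).map toE))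
  let π : M f X' ⟶ Q f X' := inv (O.ι ≫ μ f X') ≫ O.ι
  have hπμ : π ≫ μ f X' = 𝟙 _ := by rw [Category.assoc, IsIso.inv_hom_id]
  have hπ₁ : π ≫ pullback.fst _ _ = pullback.fst (g f X') f := by
    simpa [pullback.map] using congrArg (· ≫ pullback.fst (g f X') f) hπμ
  have hπ₂ : π ≫ pullback.snd _ _ ≫ X'.hom = pullback.snd (g f X') f := by
    simpa [pullback.map] using congrArg (· ≫ pullback.snd (g f X') f) hπμ
  have uniq : ∀ {T : Scheme.{u}} (l : T ⟶ Q f X'), Set.range l.base ⊆ C f X' →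
      l = (l ≫ μ f X') ≫ π := by
    intro T l hl
    have hlO : Set.range l.base ⊆ Set.range O.ι.base := by rwa [Scheme.Opens.range_ι]
    conv_rhs => rw [← IsOpenImmersion.lift_fac O.ι l hlO]
    simp only [π, Category.assoc]
    rw [← Category.assoc O.ι (μ f X'), IsIso.hom_inv_id_assoc, IsOpenImmersion.lift_fac]
  have memπ : ∀ {T : Scheme.{u}} (l : T ⟶ M f X'), Set.range (l ≫ π).base ⊆ C f X' := by
    intro T l
    rintro _ ⟨t, rfl⟩
    exact ((l ≫ inv (O.ι ≫ μ f X')).base t).2
  have hl : ∀ {T : Scheme.{u}} (x₀ x₁ : T ⟶ X) (h : x₀ ≫ f = x₁ ≫ f)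
      (v : Desc.Lifts (Over.mk X'.hom) x₀), v.1 ≫ g f X' = x₁ ≫ f := by
    intro T x₀ x₁ h v
    have hv : v.1 ≫ X'.hom = x₀ := v.2
    exact ((reassoc_of% hv) f).trans h
  let act : ∀ {T : Scheme.{u}} (x₀ x₁ : T ⟶ X), x₀ ≫ f = x₁ ≫ f →
      Desc.Lifts (Over.mk X'.hom) x₀ → Desc.Lifts (Over.mk X'.hom) x₁ := fun x₀ x₁ h v =>
    ⟨pullback.lift v.1 x₁ (hl x₀ x₁ h v) ≫ π ≫ pullback.snd _ _, by
      show (_ ≫ π ≫ pullback.snd _ _) ≫ X'.hom = x₁
      rw [Category.assoc, Category.assoc, hπ₂, pullback.lift_snd]⟩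
  have hact : ∀ {T : Scheme.{u}} (x₀ x₁ : T ⟶ X) (h : x₀ ≫ f = x₁ ≫ f)
      (v : Desc.Lifts (Over.mk X'.hom) x₀) (hh : v.1 ≫ g f X' = (act x₀ x₁ h v).1 ≫ g f X'),
      pullback.lift v.1 (act x₀ x₁ h v).1 hh = pullback.lift v.1 x₁ (hl x₀ x₁ h v) ≫ π := by
    intro T x₀ x₁ h v hh
    apply pullback.hom_ext
    · rw [pullback.lift_fst, Category.assoc, hπ₁, pullback.lift_fst]
    · rw [pullback.lift_snd, Category.assoc]
  have hg : ∀ {T : Scheme.{u}} {x : T ⟶ X} (v : Desc.Lifts (Over.mk X'.hom) x), v.1 ≫ g f X' = x ≫ f := by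
    intro T x v
    have hv : v.1 ≫ X'.hom = x := v.2
    exact (reassoc_of% hv) f
  -- characterisation of the action on geometric points
  have hactSame : ∀ {T : Scheme.{u}} (x₀ x₁ : T ⟶ X) (h : x₀ ≫ f = x₁ ≫ f)
      (v : Desc.Lifts (Over.mk X'.hom) x₀) {K : Type u} [Field K] [IsAlgClosed K]
      (z : Spec (CommRingCat.of K) ⟶ T) (hh : (z ≫ v.1) ≫ g f X' = (z ≫ (act x₀ x₁ h v).1) ≫ g f X'),
      Same f X' (z ≫ v.1) (z ≫ (act x₀ x₁ h v).1) hh := by
    intro T x₀ x₁ h v K _ _ z hh
    refine (mem_C_iff hs hconn _ _ hh).mp ?_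
    have e : pullback.lift (z ≫ v.1) (z ≫ (act x₀ x₁ h v).1) hh =
        z ≫ pullback.lift v.1 (act x₀ x₁ h v).1 ((hg v).trans (h.trans (hg _).symm)) := by
      apply pullback.hom_ext <;> simp
    rw [e, hact x₀ x₁ h v]
    exact memπ _ ⟨z.base (IsLocalRing.closedPoint K), rfl⟩
  have hself : ∀ {T : Scheme.{u}} (x : T ⟶ X) (v : Desc.Lifts (Over.mk X'.hom) x),
      act x x rfl v = v := by
    intro T x v
    refine Subtype.ext ?_
    have hd : Set.range (v.1 ≫ pullback.diagonal (g f X')).base ⊆ C f X' := by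
      rintro _ ⟨t, rfl⟩
      exact ⟨_, ⟨v.1.base t, rfl⟩, rfl⟩
    have hd' : (v.1 ≫ pullback.diagonal (g f X')) ≫ μ f X' = pullback.lift v.1 x (hl x x rfl v) := by
      have hv : v.1 ≫ X'.hom = x := v.2
      apply pullback.hom_ext <;> simp [pullback.map, hv]
    show pullback.lift v.1 x (hl x x rfl v) ≫ π ≫ pullback.snd _ _ = v.1
    rw [← hd', ← Category.assoc (_ ≫ μ f X'), ← uniq _ hd]
    simp
  have hcomp : ∀ {T : Scheme.{u}} (x₀ x₁ x₂ : T ⟶ X) (h₀₁ : x₀ ≫ f = x₁ ≫ f) (h₁₂ : x₁ ≫ f = x₂ ≫ f)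
      (v : Desc.Lifts (Over.mk X'.hom) x₀),
      act x₁ x₂ h₁₂ (act x₀ x₁ h₀₁ v) = act x₀ x₂ (h₀₁.trans h₁₂) v := by
    intro T x₀ x₁ x₂ h₀₁ h₁₂ v
    refine Subtype.ext ?_
    let a := (act x₁ x₂ h₁₂ (act x₀ x₁ h₀₁ v))
    let b := (act x₀ x₂ (h₀₁.trans h₁₂) v)
    have hb : v.1 ≫ g f X' = a.1 ≫ g f X' := (hg v).trans ((h₀₁.trans h₁₂).trans (hg a).symm)
    have hd : Set.range (pullback.lift v.1 a.1 hb).base ⊆ C f X' := by
      rintro _ ⟨t, rfl⟩
      let z : Spec (CommRingCat.of (AlgebraicClosure (T.residueField t))) ⟶ T :=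
        Spec.map (CommRingCat.ofHom (algebraMap (T.residueField t)
          (AlgebraicClosure (T.residueField t)))) ≫ T.fromSpecResidueField t
      have hz : Fiber.point z = t := Scheme.fromSpecResidueField_apply t _
      have s1 := hactSame x₀ x₁ h₀₁ v z (by
        simp only [Category.assoc]; exact congrArg (z ≫ ·) ((hg v).trans (h₀₁.trans (hg _).symm)))
      have s2 := hactSame x₁ x₂ h₁₂ (act x₀ x₁ h₀₁ v) z (by
        simp only [Category.assoc]; exact congrArg (z ≫ ·) ((hg _).trans (h₁₂.trans (hg _).symm)))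
      have hp : pullback.lift (z ≫ v.1) (z ≫ a.1)
          (by simp only [Category.assoc]; exact congrArg (z ≫ ·) hb) = z ≫ pullback.lift v.1 a.1 hb := by
        apply pullback.hom_ext <;> simp
      have h3 := (mem_C_iff hs hconn _ _ _).mpr (s1.trans f X' s2)
      rw [hp] at h3
      rw [← hz]
      exact h3
    show a.1 = pullback.lift v.1 x₂ (hl x₀ x₂ (h₀₁.trans h₁₂) v) ≫ π ≫ pullback.snd _ _
    have hd' : pullback.lift v.1 a.1 hb ≫ μ f X' = pullback.lift v.1 x₂ (hl x₀ x₂ (h₀₁.trans h₁₂) v) := by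
      have ha : a.1 ≫ X'.hom = x₂ := a.2
      apply pullback.hom_ext <;> simp [pullback.map, ha]
    rw [← hd', ← Category.assoc (_ ≫ μ f X'), ← uniq _ hd, pullback.lift_snd]
  exact ⟨{
    obj := Over.mk X'.hom
    φ := fun T x₀ x₁ h =>
      { toFun := act x₀ x₁ h
        invFun := act x₁ x₀ h.symm
        left_inv := fun v => (hcomp x₀ x₁ x₀ h h.symm v).trans (hself x₀ v)
        right_inv := fun v => (hcomp x₁ x₀ x₁ h.symm h v).trans (hself x₁ v) }
    φ_natural := fun T T' γ x₀ x₁ h h' v v' hv' => by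
      show pullback.lift v'.1 (γ ≫ x₁) _ ≫ π ≫ pullback.snd _ _ = γ ≫ pullback.lift v.1 x₁ _ ≫ π ≫ pullback.snd _ _
      rw [← Category.assoc γ]
      congr 1
      apply pullback.hom_ext <;> simp [hv']
    φ_self := fun T x v => hself x v
    φ_comp := fun T x₀ x₁ x₂ h₀₁ h₁₂ v => hcomp x₀ x₁ x₂ h₀₁ h₁₂ v }, rfl⟩

include hs hconn in
theorem exists_descended [LocallyOfFinitePresentation f] :
    ∃ S' : FEt.Cat S, Nonempty ((FEt.restrict f).obj S' ≅ X') := by
  obtain ⟨D, hD⟩ := exists_datum hs hconn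
  haveI : IsFinite D.obj.hom := by rw [hD]; exact X'.prop.1
  haveI : Etale D.obj.hom := by rw [hD]; exact X'.prop.2
  obtain ⟨U, hU₁, hU₂, ⟨e⟩⟩ := Groth.Agent.S2903.result f D
  let S' : FEt.Cat S := MorphismProperty.Over.mk ⊤ U.hom ⟨hU₁, hU₂⟩
  let e₁ : Over.mk (pullback.fst f U.hom) ≅ D.obj :=
    { hom := e.hom.hom
      inv := e.inv.hom
      hom_inv_id := congrArg Desc.SchDD.Hom.hom e.hom_inv_id
      inv_hom_id := congrArg Desc.SchDD.Hom.hom e.inv_hom_id }
  let e₂ : Over.mk (pullback.fst f U.hom) ≅ Over.mk X'.hom := e₁ ≪≫ eqToIso hD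
  refine ⟨S', ⟨MorphismProperty.Over.isoMk (pullbackSymmetry U.hom f ≪≫ (Over.forget _).mapIso e₂) ?_⟩⟩
  have h : e₂.hom.left ≫ X'.hom = pullback.fst f U.hom := Over.w e₂.hom
  show ((pullbackSymmetry U.hom f).hom ≫ e₂.hom.left) ≫ X'.hom = pullback.snd U.hom f
  rw [Category.assoc, h, pullbackSymmetry_hom_comp_fst]

end Groth.Agent.Lib.Kunneth.Trivial
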