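import Groth.Agent.Lib.EtDescent.Subtrusive
import Groth.Agent.Lib.EtDescent.Conn
import Groth.Agent.Lib.Kunneth.Trivial
import Groth.Agent.S3694

/-!
# A family of sheets over a proper morphism with connected fibres comes from an etale scheme
-/

set_option autoImplicit false
set_option backward.isDefEq.respectTransparency false

noncomputable section

universe u

open CategoryTheory CategoryTheory.Limits AlgebraicGeometry

namespace Groth.Agent.Lib.Kunneth.Sheets

/-- The geometric point above a point. -/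
def gpt {X : Scheme.{u}} (x : X) :
    Spec (CommRingCat.of (AlgebraicClosure (X.residueField x))) ⟶ X :=
  Spec.map (CommRingCat.ofHom (algebraMap (X.residueField x) (AlgebraicClosure (X.residueField x)))) ≫
    X.fromSpecResidueField x

theorem gpt_apply {X : Scheme.{u}} (x : X) (t) : (gpt x).base t = x :=
  Scheme.fromSpecResidueField_apply x _

theorem gpt_point {X : Scheme.{u}} (x : X) : FEt.Fiber.point (gpt x) = x :=
  Scheme.fromSpecResidueField_apply x _

/-- A geometric point whose image is in the image of a closed immersion factors. -/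
theorem exists_factor {X Y : Scheme.{u}} (i : Y ⟶ X) [IsClosedImmersion i] {K : Type u} [Field K]
    [IsAlgClosed K] (z : Spec (CommRingCat.of K) ⟶ X) (hz : FEt.Fiber.point z ∈ Set.range i.base) :
    ∃ t : Spec (CommRingCat.of K) ⟶ Y, t ≫ i = z := by
  obtain ⟨y, hy⟩ := hz
  obtain ⟨t, ht, -⟩ := Lib.FEt.Conservative.exists_lift_point z i y hy
  exact ⟨t, ht⟩

variable {X W N S : Scheme.{u}}

theorem exists_iso_of_sheets (f : X ⟶ S) [IsProper f] [Surjective f] [LocallyOfFinitePresentation f]
    (p : W ⟶ X) [Etale p] [IsSeparated p] (k : W ⟶ N) [IsProper k] (π : N ⟶ S) [IsSeparated π]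
    (w : p ≫ f = k ≫ π)
    (hinj : ∀ (K : Type u) [Field K] [IsAlgClosed K] (a b : Spec (CommRingCat.of K) ⟶ W),
      a ≫ p = b ≫ p → a ≫ k = b ≫ k → a = b)
    (hsurj : ∀ (K : Type u) [Field K] [IsAlgClosed K] (x : Spec (CommRingCat.of K) ⟶ X)
      (n : Spec (CommRingCat.of K) ⟶ N), x ≫ f = n ≫ π → ∃ a, a ≫ p = x ∧ a ≫ k = n) :
    ∃ (U : Scheme.{u}) (e : U ⟶ S) (_ : Etale e) (φ : W ≅ pullback f e),
      φ.hom ≫ pullback.fst f e = p := by
  let h := p ≫ f
  let kk : pullback h h ⟶ pullback π π :=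
    pullback.map h h π π k k (𝟙 _) (by rw [Category.comp_id]; exact w) (by rw [Category.comp_id]; exact w)
  have hkk : IsProper kk := MorphismProperty.pullbackMap (P := @IsProper) ‹IsProper k› ‹IsProper k› w.symm.symm w
  let j : pullback p p ⟶ pullback h h := pullback.mapDesc p p f
  have : IsClosedImmersion j :=
    MorphismProperty.of_isPullback (pullback_map_diagonal_isPullback p p f)
      (inferInstanceAs (IsClosedImmersion (pullback.diagonal f)))
  let E : Set ↥(pullback π π) := Set.range (pullback.diagonal π).base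
  let E' : Set ↥(pullback π π) := (j ≫ kk).base '' (Set.range (pullback.diagonal p).base)ᶜ
  have hE : IsClosed E := (pullback.diagonal π).isClosedEmbedding.isClosed_range
  have hE' : IsClosed E' :=
    (j ≫ kk).isClosedMap _ (pullback.diagonal p).isOpenEmbedding.isOpen_range.isClosed_compl
  have hjk₁ : (j ≫ kk) ≫ pullback.fst π π = pullback.fst p p ≫ k := by simp [j, kk, pullback.map, pullback.mapDesc, h]
  have hjk₂ : (j ≫ kk) ≫ pullback.snd π π = pullback.snd p p ≫ k := by simp [j, kk, pullback.map, pullback.mapDesc, h]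
  have hEc : E = E'ᶜ := by
    ext e
    constructor
    · rintro ⟨n, hn⟩ ⟨z, hz, hze⟩
      obtain ⟨t, ht⟩ := exists_factor (pullback.diagonal π) (gpt z ≫ j ≫ kk) (by
        refine ⟨n, hn.trans (hze.symm.trans ?_)⟩
        show _ = (j ≫ kk).base ((gpt z).base _)
        rw [gpt_apply])
      have hk : (gpt z ≫ pullback.fst p p) ≫ k = (gpt z ≫ pullback.snd p p) ≫ k := by
        have e1 := congrArg (· ≫ pullback.fst π π) ht
        have e2 := congrArg (· ≫ pullback.snd π π) ht
        simp only [Category.assoc, pullback.diagonal_fst, pullback.diagonal_snd, Category.comp_id] at e1 e2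
        rw [Category.assoc, Category.assoc, ← hjk₁, ← hjk₂]
        simp only [Category.assoc]
        exact e1.symm.trans e2
      have hab := hinj _ _ _ (by simp [pullback.condition]) hk
      have hd : (gpt z ≫ pullback.fst p p) ≫ pullback.diagonal p = gpt z := by
        apply pullback.hom_ext
        · simp
        · simpa using hab
      refine hz ⟨(gpt z ≫ pullback.fst p p).base (IsLocalRing.closedPoint _), ?_⟩
      rw [← Scheme.Hom.comp_apply, hd, gpt_apply]
    · intro he
      let K := AlgebraicClosure ((pullback π π).residueField e)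
      let ν : Spec (CommRingCat.of (AlgebraicClosure ((pullback π π).residueField e))) ⟶ pullback π π := gpt e
      let ξ := ν ≫ pullback.fst π π ≫ π
      have hne : Nonempty ↥(pullback f ξ) := by
        have : Surjective (pullback.snd f ξ) := MorphismProperty.pullback_snd (P := @Surjective) _ _ ‹_›
        obtain ⟨t, -⟩ := (pullback.snd f ξ).surjective (IsLocalRing.closedPoint _)
        exact ⟨t⟩
      have : CompactSpace ↥(pullback f ξ) := QuasiCompact.compactSpace_of_compactSpace (pullback.snd f ξ)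
      obtain ⟨x₀, -, hx₀⟩ := (isClosed_univ (X := ↥(pullback f ξ))).exists_closed_singleton Set.univ_nonempty
      let x := pointOfClosedPoint (pullback.snd f ξ) x₀ hx₀ ≫ pullback.fst f ξ
      have hx : x ≫ f = ξ := by rw [Category.assoc, pullback.condition, pointOfClosedPoint_comp_assoc]
      obtain ⟨a, ha, ha'⟩ := hsurj _ x (ν ≫ pullback.fst π π) (by rw [hx, Category.assoc])
      obtain ⟨b, hb, hb'⟩ := hsurj _ x (ν ≫ pullback.snd π π) (by rw [hx, Category.assoc, ← pullback.condition])
      let z := pullback.lift a b (ha.trans hb.symm)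
      have hz : z ≫ j ≫ kk = ν := by
        apply pullback.hom_ext
        · rw [Category.assoc, hjk₁, pullback.lift_fst_assoc, ha']
        · rw [Category.assoc, hjk₂, pullback.lift_snd_assoc, hb']
      have hze : (j ≫ kk).base (FEt.Fiber.point z) = e := by
        have := congrArg FEt.Fiber.point hz
        rw [gpt_point] at this
        exact this
      by_cases hd : FEt.Fiber.point z ∈ Set.range (pullback.diagonal p).base
      · obtain ⟨u, hu⟩ := hd
        refine ⟨k.base u, ?_⟩
        rw [← hze, ← hu, ← Scheme.Hom.comp_apply, ← Scheme.Hom.comp_apply]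
        refine congrArg (fun r : W ⟶ pullback π π => r.base u) ?_
        apply pullback.hom_ext <;> simp [hjk₁, hjk₂, Category.assoc, j, kk, pullback.map, pullback.mapDesc, h]
      · exact absurd ⟨_, hd, hze⟩ he
  let O : (pullback h h).Opens :=
    ⟨kk.base ⁻¹' E, (hEc ▸ hE'.isOpen_compl).preimage kk.continuous⟩
  have hOc : IsClosedImmersion O.ι := IsClosedImmersion.of_isPreimmersion _ (by
    rw [Scheme.Opens.range_ι]; exact hE.preimage kk.continuous)
  have mem_iff : ∀ {K : Type u} [Field K] [IsAlgClosed K] (l : Spec (CommRingCat.of K) ⟶ pullback h h),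
      FEt.Fiber.point l ∈ O ↔ (l ≫ pullback.fst h h) ≫ k = (l ≫ pullback.snd h h) ≫ k := by
    intro K _ _ l
    constructor
    · intro hl
      obtain ⟨t, ht⟩ := exists_factor (pullback.diagonal π) (l ≫ kk) hl
      have h1 := congrArg (· ≫ pullback.fst π π) ht
      have h2 := congrArg (· ≫ pullback.snd π π) ht
      simp only [Category.assoc, pullback.diagonal_fst, pullback.diagonal_snd, Category.comp_id, kk,
        pullback.map, pullback.lift_fst, pullback.lift_snd] at h1 h2
      simp only [Category.assoc]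
      exact h1.symm.trans h2
    · intro hl
      refine ⟨FEt.Fiber.point ((l ≫ pullback.fst h h) ≫ k), ?_⟩
      show _ = FEt.Fiber.point (l ≫ kk)
      have e : ((l ≫ pullback.fst h h) ≫ k) ≫ pullback.diagonal π = l ≫ kk := by
        apply pullback.hom_ext
        · simp [kk, pullback.map]
        · simpa [kk, pullback.map] using hl
      rw [← e]
      rfl
  have range_O : ∀ {T : Scheme.{u}} (l : T ⟶ pullback h h),
      (∀ t : T, FEt.Fiber.point (gpt t ≫ l) ∈ O) → Set.range l.base ⊆ Set.range O.ι.base := by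
    intro T l hl
    rw [Scheme.Opens.range_ι]
    rintro _ ⟨t, rfl⟩
    have := hl t
    rwa [show FEt.Fiber.point (gpt t ≫ l) = l.base t from congrArg l.base (gpt_point t)] at this
  let μ : pullback h h ⟶ pullback h f :=
    pullback.map h h h f (𝟙 _) p (𝟙 _) (by simp) (by simp [h])
  have : Etale μ := MorphismProperty.pullbackMap (P := @Etale) (inferInstanceAs (Etale (𝟙 W)))
    ‹Etale p› (by simp) rfl
  let c : (O : Scheme.{u}) ⟶ pullback h f := O.ι ≫ μ
  have : Etale c := inferInstanceAs (Etale (O.ι ≫ μ))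
  have hμ₁ : μ ≫ pullback.fst h f = pullback.fst h h := by simp [μ, pullback.map]
  have hμ₂ : μ ≫ pullback.snd h f = pullback.snd h h ≫ p := by simp [μ, pullback.map]
  have : UniversallyInjective c := by
    rw [UniversallyInjective.iff_diagonal]
    refine ⟨fun z => ?_⟩
    let l₀ := (gpt z ≫ pullback.fst c c) ≫ O.ι
    let l₁ := (gpt z ≫ pullback.snd c c) ≫ O.ι
    have hl : l₀ ≫ μ = l₁ ≫ μ := by
      simp only [l₀, l₁, Category.assoc]
      exact congrArg (gpt z ≫ ·) pullback.condition
    have h1 : l₀ ≫ pullback.fst h h = l₁ ≫ pullback.fst h h := by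
      rw [← hμ₁, reassoc_of% hl]
    have h2 : (l₀ ≫ pullback.snd h h) ≫ p = (l₁ ≫ pullback.snd h h) ≫ p := by
      simp only [Category.assoc, ← hμ₂]
      simpa only [Category.assoc] using congrArg (· ≫ pullback.snd h f) hl
    have hm₀ := (mem_iff l₀).mp ((gpt z ≫ pullback.fst c c).base (IsLocalRing.closedPoint _)).2
    have hm₁ := (mem_iff l₁).mp ((gpt z ≫ pullback.snd c c).base (IsLocalRing.closedPoint _)).2
    have h3 := hinj _ _ _ h2 (hm₀.symm.trans ((congrArg (· ≫ k) h1).trans hm₁))
    have hll : l₀ = l₁ := pullback.hom_ext h1 h3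
    have hd : (gpt z ≫ pullback.fst c c) ≫ pullback.diagonal c = gpt z := by
      apply pullback.hom_ext
      · simp
      · simpa using (cancel_mono O.ι).1 hll
    refine ⟨(gpt z ≫ pullback.fst c c).base (IsLocalRing.closedPoint _), ?_⟩
    rw [← Scheme.Hom.comp_apply, hd, gpt_apply]
  have : IsOpenImmersion c := S3694.result c
  have : Surjective c := ⟨fun m => by
    let z := gpt m
    obtain ⟨b, hb, hb'⟩ := hsurj _ (z ≫ pullback.snd h f) ((z ≫ pullback.fst h f) ≫ k) (by
      rw [Category.assoc, Category.assoc, Category.assoc, ← w, ← pullback.condition])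
    let l := pullback.lift (f := h) (g := h) (z ≫ pullback.fst h f) b (by
      rw [Category.assoc, show b ≫ h = (b ≫ p) ≫ f from (Category.assoc _ _ _).symm, hb, Category.assoc,
        pullback.condition])
    have hl : FEt.Fiber.point l ∈ O := (mem_iff l).mpr (by simp [l, hb'])
    refine ⟨⟨_, hl⟩, ?_⟩
    show μ.base (FEt.Fiber.point l) = m
    have e : l ≫ μ = z := by
      apply pullback.hom_ext
      · rw [Category.assoc, hμ₁, pullback.lift_fst]
      · rw [Category.assoc, hμ₂, pullback.lift_snd_assoc, hb]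
    exact (congrArg FEt.Fiber.point e).trans (gpt_point m)⟩
  have : IsIso c := (isIso_iff_isOpenImmersion_and_surjective c).mpr ⟨inferInstance, inferInstance⟩
  -- the transport
  have hl : ∀ {T : Scheme.{u}} {x₀ x₁ : T ⟶ X}, x₀ ≫ f = x₁ ≫ f →
      ∀ v : Desc.Lifts (Over.mk p) x₀, v.1 ≫ h = x₁ ≫ f := by
    intro T x₀ x₁ hx v
    have hv : v.1 ≫ p = x₀ := v.2
    exact ((reassoc_of% hv) f).trans hx
  let π' : pullback h f ⟶ pullback h h := inv c ≫ O.ι
  have hπ'μ : π' ≫ μ = 𝟙 _ := by simp [π', c]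
  have hπ₁ : π' ≫ pullback.fst h h = pullback.fst h f := by
    rw [← hμ₁, reassoc_of% hπ'μ]
  have hπ₂ : π' ≫ pullback.snd h h ≫ p = pullback.snd h f := by
    rw [← hμ₂, reassoc_of% hπ'μ]
  let act : ∀ {T : Scheme.{u}} (x₀ x₁ : T ⟶ X), x₀ ≫ f = x₁ ≫ f →
      Desc.Lifts (Over.mk p) x₀ → Desc.Lifts (Over.mk p) x₁ := fun x₀ x₁ hx v =>
    ⟨pullback.lift v.1 x₁ (hl hx v) ≫ π' ≫ pullback.snd h h, by
      show (_ ≫ π' ≫ pullback.snd h h) ≫ p = x₁
      rw [Category.assoc, Category.assoc, hπ₂, pullback.lift_snd]⟩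
  have act_k : ∀ {T : Scheme.{u}} (x₀ x₁ : T ⟶ X) (hx : x₀ ≫ f = x₁ ≫ f)
      (v : Desc.Lifts (Over.mk p) x₀) (t : T),
      (gpt t ≫ (act x₀ x₁ hx v).1) ≫ k = (gpt t ≫ v.1) ≫ k := by
    intro T x₀ x₁ hx v t
    let l := gpt t ≫ pullback.lift v.1 x₁ (hl hx v) ≫ π'
    have hm : FEt.Fiber.point l ∈ O :=
      ((gpt t ≫ pullback.lift v.1 x₁ (hl hx v) ≫ inv c).base (IsLocalRing.closedPoint _)).2
    have e := (mem_iff l).mp hm
    simp only [l, Category.assoc, reassoc_of% hπ₁, pullback.lift_fst_assoc] at e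
    simpa [act] using e.symm
  have uniq : ∀ {T : Scheme.{u}} (x₀ x₁ : T ⟶ X) (hx : x₀ ≫ f = x₁ ≫ f)
      (v : Desc.Lifts (Over.mk p) x₀) (u : Desc.Lifts (Over.mk p) x₁),
      (∀ t : T, (gpt t ≫ u.1) ≫ k = (gpt t ≫ v.1) ≫ k) → act x₀ x₁ hx v = u := by
    intro T x₀ x₁ hx v u' hu
    have hu' : u'.1 ≫ p = x₁ := u'.2
    let l := pullback.lift (f := h) (g := h) v.1 u'.1 ((hl hx v).trans ((reassoc_of% hu') f).symm)
    have hr : Set.range l.base ⊆ Set.range O.ι.base := range_O l fun t =>
      (mem_iff (gpt t ≫ l)).mpr (by simpa [l] using (hu t).symm)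
    have e : l ≫ μ = pullback.lift v.1 x₁ (hl hx v) := by
      apply pullback.hom_ext
      · rw [Category.assoc, hμ₁, pullback.lift_fst, pullback.lift_fst]
      · rw [Category.assoc, hμ₂, pullback.lift_snd_assoc, pullback.lift_snd, hu']
    refine Subtype.ext ?_
    show pullback.lift v.1 x₁ (hl hx v) ≫ π' ≫ pullback.snd h h = u'.1
    rw [← e, ← IsOpenImmersion.lift_fac O.ι l hr]
    simp only [Category.assoc, π']
    rw [show O.ι ≫ μ ≫ inv c ≫ O.ι ≫ pullback.snd h h = O.ι ≫ pullback.snd h h from by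
      rw [← Category.assoc O.ι μ, IsIso.hom_inv_id_assoc]]
    rw [IsOpenImmersion.lift_fac_assoc, pullback.lift_snd]
  have hself : ∀ {T : Scheme.{u}} (x : T ⟶ X) (v : Desc.Lifts (Over.mk p) x), act x x rfl v = v :=
    fun x v => uniq x x rfl v v fun _ => rfl
  have hcomp : ∀ {T : Scheme.{u}} (x₀ x₁ x₂ : T ⟶ X) (h₀₁ : x₀ ≫ f = x₁ ≫ f) (h₁₂ : x₁ ≫ f = x₂ ≫ f)
      (v : Desc.Lifts (Over.mk p) x₀), act x₁ x₂ h₁₂ (act x₀ x₁ h₀₁ v) = act x₀ x₂ (h₀₁.trans h₁₂) v :=
    fun x₀ x₁ x₂ h₀₁ h₁₂ v => (uniq x₀ x₂ (h₀₁.trans h₁₂) v (act x₁ x₂ h₁₂ (act x₀ x₁ h₀₁ v)) fun t =>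
      (act_k x₁ x₂ h₁₂ _ t).trans (act_k x₀ x₁ h₀₁ v t)).symm
  let D : Desc.SchDD f :=
    { obj := Over.mk p
      φ := fun T x₀ x₁ hx =>
        { toFun := act x₀ x₁ hx
          invFun := act x₁ x₀ hx.symm
          left_inv := fun v => (hcomp x₀ x₁ x₀ hx hx.symm v).trans (hself x₀ v)
          right_inv := fun v => (hcomp x₁ x₀ x₁ hx.symm hx v).trans (hself x₁ v) }
      φ_natural := fun T T' γ x₀ x₁ hx hx' v v' hv' => by
        show pullback.lift v'.1 (γ ≫ x₁) _ ≫ π' ≫ pullback.snd h h =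
          γ ≫ pullback.lift v.1 x₁ _ ≫ π' ≫ pullback.snd h h
        rw [← Category.assoc γ]
        congr 1
        apply pullback.hom_ext <;> simp [hv']
      φ_self := fun T x v => hself x v
      φ_comp := fun T x₀ x₁ x₂ h₀₁ h₁₂ v => hcomp x₀ x₁ x₂ h₀₁ h₁₂ v }
  haveI : Etale D.obj.hom := ‹Etale p›
  haveI : IsSeparated D.obj.hom := ‹IsSeparated p›
  obtain ⟨U, q, hU, -, -, H⟩ := Lib.EtDescent.exists_effective_of_subtrusive_fp Lib.EtDescent.steinConn
    (Lib.Subtrusive.Criterion.univSSubtrusive_of_universallyClosed f) D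
  exact ⟨U.left, U.hom, hU, H.isPullback.isoPullback, H.isPullback.isoPullback_hom_fst⟩

end Groth.Agent.Lib.Kunneth.Sheets
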